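import Cfsg.Agent.H27.KGV.Blocks

/-!
The algebra generated by a normal abelian subgroup: either a field or a system of imprimitivity.
-/

set_option autoImplicit false
set_option linter.style.haveILetI false
set_option linter.unusedSectionVars false

namespace H27.KGV

universe u v

variable {K : Type u} [Group K] [Finite K] {p : ℕ} [Fact p.Prime]
variable {V : Type v} [AddCommGroup V] [Module (ZMod p) V] [Finite V]
variable (ρ : Representation (ZMod p) K V)

/-- The algebra generated by the image of a subgroup. -/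
def ringOf (A : Subgroup K) : Subalgebra (ZMod p) (Module.End (ZMod p) V) :=
  Algebra.adjoin (ZMod p) (ρ '' (A : Set K))

variable (A : Subgroup K)

theorem rho_mem_ringOf {a : K} (ha : a ∈ A) : ρ a ∈ ringOf ρ A :=
  Algebra.subset_adjoin ⟨a, ha, rfl⟩

theorem commute_ringOf {y : Module.End (ZMod p) V} (h : ∀ a ∈ A, ρ a * y = y * ρ a)
    {x : Module.End (ZMod p) V} (hx : x ∈ ringOf ρ A) : x * y = y * x := by
  have hle : ringOf ρ A ≤ Subalgebra.centralizer (ZMod p) {y} := Algebra.adjoin_le (by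
    rintro _ ⟨a, ha, rfl⟩
    rw [SetLike.mem_coe, Subalgebra.mem_centralizer_iff]
    rintro g rfl
    exact (h a ha).symm)
  exact ((Subalgebra.mem_centralizer_iff _).1 (hle hx) y rfl).symm

theorem ringOf_comm (hA : ∀ a ∈ A, ∀ b ∈ A, a * b = b * a) {x y : Module.End (ZMod p) V}
    (hx : x ∈ ringOf ρ A) (hy : y ∈ ringOf ρ A) : x * y = y * x :=
  commute_ringOf ρ A (fun a ha => (commute_ringOf ρ A
    (fun b hb => by rw [← map_mul, ← map_mul, hA a ha b hb]) hy).symm) hx

theorem conj_mul' (k : K) (a b : Module.End (ZMod p) V) :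
    (ρ k * a * ρ k⁻¹) * (ρ k * b * ρ k⁻¹) = ρ k * (a * b) * ρ k⁻¹ := by
  simp only [mul_assoc]
  rw [← mul_assoc (ρ k⁻¹) (ρ k), rho_inv_mul, one_mul]

theorem conj_mem_ringOf [A.Normal] (k : K) {x : Module.End (ZMod p) V} (hx : x ∈ ringOf ρ A) :
    ρ k * x * ρ k⁻¹ ∈ ringOf ρ A := by
  induction hx using Algebra.adjoin_induction with
  | mem x hx =>
    obtain ⟨a, ha, rfl⟩ := hx
    rw [← map_mul, ← map_mul]
    exact rho_mem_ringOf ρ A (Subgroup.Normal.conj_mem inferInstance a ha k)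
  | algebraMap r =>
    rw [← Algebra.commutes, mul_assoc, rho_mul_inv, mul_one]
    exact Subalgebra.algebraMap_mem _ r
  | add x y _ _ hx hy =>
    rw [mul_add, add_mul]
    exact add_mem hx hy
  | mul x y _ _ hx hy =>
    rw [← conj_mul']
    exact mul_mem hx hy

theorem finite_end : Finite (Module.End (ZMod p) V) :=
  Finite.of_injective (fun f => (f : V → V)) DFunLike.coe_injective

theorem ringOf_reduced [Nontrivial V] (hA : ∀ a ∈ A, ∀ b ∈ A, a * b = b * a)
    (hcop : (Nat.card A).Coprime p) {x : Module.End (ZMod p) V} (hx : x ∈ ringOf ρ A) {m : ℕ}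
    (hm : x ^ m = 0) : x = 0 := by
  haveI := finite_end (p := p) (V := V)
  haveI : CharP (Module.End (ZMod p) V) p :=
    charP_of_injective_algebraMap (algebraMap (ZMod p) (Module.End (ZMod p) V)).injective p
  have hsurj : ∀ y ∈ ringOf ρ A, ∃ z ∈ ringOf ρ A, z ^ p = y := by
    intro y hy
    induction hy using Algebra.adjoin_induction with
    | mem y hy =>
      obtain ⟨a, ha, rfl⟩ := hy
      have hc : (Nat.card A).Coprime p := hcop
      obtain ⟨b, hb⟩ := (powCoprime hc).surjective ⟨a, ha⟩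
      refine ⟨ρ b, rho_mem_ringOf ρ A b.2, ?_⟩
      rw [← map_pow]
      exact congrArg ρ (congrArg Subtype.val hb)
    | algebraMap r =>
      exact ⟨algebraMap _ _ r, Subalgebra.algebraMap_mem _ r, by rw [← map_pow, ZMod.pow_card]⟩
    | add y z _ _ hy hz =>
      obtain ⟨y', hy', rfl⟩ := hy
      obtain ⟨z', hz', rfl⟩ := hz
      exact ⟨y' + z', add_mem hy' hz', add_pow_char_of_commute _ (ringOf_comm ρ A hA hy' hz')⟩
    | mul y z _ _ hy hz =>
      obtain ⟨y', hy', rfl⟩ := hy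
      obtain ⟨z', hz', rfl⟩ := hz
      exact ⟨y' * z', mul_mem hy' hz', Commute.mul_pow (ringOf_comm ρ A hA hy' hz') p⟩
  haveI : Finite (ringOf ρ A) := Finite.of_injective _ Subtype.val_injective
  have hinj : Function.Injective (fun y : ringOf ρ A => y ^ p) :=
    Finite.injective_iff_surjective.2 fun y => by
      obtain ⟨z, hz, he⟩ := hsurj y.1 y.2
      exact ⟨⟨z, hz⟩, Subtype.ext he⟩
  have hk : ∀ (k : ℕ) (y : ringOf ρ A), y ^ p ^ k = 0 → y = 0 := by
    intro k
    induction k with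
    | zero => intro y hy; simpa using hy
    | succ k ih =>
      intro y hy
      rw [pow_succ, pow_mul] at hy
      refine ih y (hinj ?_)
      show (y ^ p ^ k) ^ p = (0 : ringOf ρ A) ^ p
      rw [hy, zero_pow (Fact.out : p.Prime).ne_zero]
  have := hk m ⟨x, hx⟩ (Subtype.ext (by
    show x ^ p ^ m = 0
    obtain ⟨j, hj⟩ : ∃ j, p ^ m = m + j :=
      ⟨p ^ m - m, by have := (Nat.lt_pow_self (n := m) (Fact.out : p.Prime).one_lt); omega⟩
    rw [hj, pow_add, hm, zero_mul]))
  exact congrArg Subtype.val this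

theorem exists_idempotent_pow {M : Type*} [Monoid M] [Finite M] (x : M) :
    ∃ n, 0 < n ∧ x ^ n * x ^ n = x ^ n := by
  obtain ⟨i, j, hij, he⟩ := Finite.exists_ne_map_eq_of_infinite fun n : ℕ => x ^ n
  wlog hlt : i < j generalizing i j
  · exact this j i hij.symm he.symm (by omega)
  obtain ⟨d, rfl⟩ : ∃ d, j = i + d := ⟨j - i, by omega⟩
  have hper : ∀ t n, i ≤ n → x ^ (n + t * d) = x ^ n := by
    intro t
    induction t with
    | zero => simp
    | succ t ih =>
      intro n hn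
      obtain ⟨c, rfl⟩ : ∃ c, n = i + c := ⟨n - i, by omega⟩
      rw [show i + c + (t + 1) * d = (i + d) + (c + t * d) by ring, pow_add,
        show x ^ (i + d) = x ^ i from he.symm, ← pow_add, ← add_assoc]
      exact ih (i + c) (by omega)
  refine ⟨(i + 1) * d, Nat.mul_pos (by omega) (by omega), ?_⟩
  rw [← pow_add]
  exact hper (i + 1) ((i + 1) * d) (le_trans (Nat.le_succ i) (Nat.le_mul_of_pos_right _ (by omega)))

/-- The primitive idempotents of the algebra: on each block it acts as a field. -/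
theorem exists_finest [A.Normal] [Nontrivial V] (hA : ∀ a ∈ A, ∀ b ∈ A, a * b = b * a)
    (hcop : (Nat.card A).Coprime p) : ∃ sy : Sys ρ, (∀ a ∈ sy.S, a ∈ ringOf ρ A) ∧
      ∀ a ∈ sy.S, ∀ y ∈ ringOf ρ A, y * a ≠ 0 → ∀ w, a w = w → y w = 0 → w = 0 := by
  classical
  haveI := finite_end (p := p) (V := V)
  haveI := Fintype.ofFinite (Module.End (ZMod p) V)
  let Q := fun e => e ∈ ringOf ρ A ∧ e * e = e
  let S : Finset (Module.End (ZMod p) V) := Finset.univ.filter fun e =>
    Q e ∧ e ≠ 0 ∧ ∀ g, Q g → g * e = g → g = 0 ∨ g = e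
  have hS : ∀ e, e ∈ S ↔ Q e ∧ e ≠ 0 ∧ ∀ g, Q g → g * e = g → g = 0 ∨ g = e := fun e => by simp [S]
  have hbelow : ∀ e, Q e → e ≠ 0 → ∃ g ∈ S, g * e = g := by
    intro e he he0
    have hex : ∃ d, ∃ g, Q g ∧ g ≠ 0 ∧ g * e = g ∧ Module.finrank (ZMod p) (LinearMap.range g) = d :=
      ⟨_, e, he, he0, he.2, rfl⟩
    obtain ⟨g, hg, hg0, hge, hgd⟩ := Nat.find_spec hex
    refine ⟨g, (hS g).2 ⟨hg, hg0, fun k hk hkg => ?_⟩, hge⟩
    by_cases hk0 : k = 0
    · exact Or.inl hk0
    refine Or.inr ?_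
    have hkg' : g * k = k := (ringOf_comm ρ A hA hg.1 hk.1).trans hkg
    have hle : LinearMap.range k ≤ LinearMap.range g := by
      rintro _ ⟨y, rfl⟩
      exact ⟨k y, LinearMap.congr_fun hkg' y⟩
    have hge' : Module.finrank (ZMod p) (LinearMap.range g) ≤ Module.finrank (ZMod p) (LinearMap.range k) :=
      hgd ▸ Nat.find_min' hex ⟨k, hk, hk0, by rw [← hkg, mul_assoc, hge], rfl⟩
    have heq := Submodule.eq_of_le_of_finrank_le hle hge'
    have hkg2 : k * g = g := LinearMap.ext fun y => by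
      obtain ⟨z, hz⟩ : g y ∈ LinearMap.range k := heq ▸ ⟨y, rfl⟩
      show k (g y) = g y
      rw [← hz]
      exact LinearMap.congr_fun hk.2 z
    rw [← hkg, hkg2]
  have horth : ∀ a ∈ S, ∀ b ∈ S, a ≠ b → a * b = 0 := by
    intro a ha b hb hab
    obtain ⟨haQ, -, hamin⟩ := (hS a).1 ha
    obtain ⟨hbQ, -, hbmin⟩ := (hS b).1 hb
    have hc : a * b = b * a := ringOf_comm ρ A hA haQ.1 hbQ.1
    have hQ : Q (a * b) := ⟨mul_mem haQ.1 hbQ.1, by
      rw [mul_assoc, ← mul_assoc b a b, ← hc, mul_assoc a b b, hbQ.2, ← mul_assoc a a b, haQ.2]⟩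
    rcases hamin _ hQ (by rw [mul_assoc, ← hc, ← mul_assoc, haQ.2]) with h | h
    · exact h
    rcases hbmin _ hQ (by rw [mul_assoc, hbQ.2]) with h' | h'
    · exact h'
    exact absurd (h.symm.trans h') hab
  have hsum : ∑ a ∈ S, a = 1 := by
    set s := ∑ a ∈ S, a
    have hsR : s ∈ ringOf ρ A := Subalgebra.sum_mem _ fun a ha => ((hS a).1 ha).1.1
    have hsa : ∀ a ∈ S, a * s = a := fun a ha => by
      rw [Finset.mul_sum, Finset.sum_eq_single a (fun b hb hba => horth a ha b hb hba.symm)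
        (fun h => absurd ha h)]
      exact ((hS a).1 ha).1.2
    have hss : s * s = s := by
      conv_lhs => arg 1; simp only [s]
      rw [Finset.sum_mul]
      exact Finset.sum_congr rfl hsa
    by_contra hne
    obtain ⟨g, hg, hge⟩ := hbelow (1 - s) ⟨sub_mem (one_mem _) hsR, by
      rw [sub_mul, mul_sub, mul_sub, hss]; simp⟩ (sub_ne_zero.2 (Ne.symm hne))
    rw [mul_sub, mul_one, hsa g hg, sub_self] at hge
    exact ((hS g).1 hg).2.1 hge.symm
  refine ⟨⟨S, fun a ha => ((hS a).1 ha).2.1, fun a ha => ((hS a).1 ha).1.2, horth, hsum, ?_⟩, fun a ha => ((hS a).1 ha).1.1, ?_⟩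
  · intro k a ha
    obtain ⟨⟨haR, haI⟩, ha0, hamin⟩ := (hS a).1 ha
    refine (hS _).2 ⟨⟨conj_mem_ringOf ρ A k haR, by rw [conj_mul', haI]⟩, fun h => ha0 ?_,
      fun g hg hga => ?_⟩
    · calc a = ρ k⁻¹ * (ρ k * a * ρ k⁻¹) * ρ k := by
            simp only [mul_assoc]; rw [rho_inv_mul, mul_one, ← mul_assoc, rho_inv_mul, one_mul]
        _ = 0 := by rw [h]; simp
    · have hback : ∀ z, ρ k * (ρ k⁻¹ * z * ρ k) * ρ k⁻¹ = z := fun z => by
        simp only [mul_assoc]; rw [rho_mul_inv, mul_one, ← mul_assoc, rho_mul_inv, one_mul]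
      have hconj : ρ k⁻¹ * g * ρ k = ρ k⁻¹ * g * ρ k⁻¹⁻¹ := by rw [inv_inv]
      rcases hamin (ρ k⁻¹ * g * ρ k) ⟨hconj ▸ conj_mem_ringOf ρ A k⁻¹ hg.1, by
          rw [hconj, conj_mul', hg.2]⟩ (by
            calc ρ k⁻¹ * g * ρ k * a = ρ k⁻¹ * g * (ρ k * a * (ρ k⁻¹ * ρ k)) := by
                  rw [rho_inv_mul, mul_one]; simp only [mul_assoc]
              _ = ρ k⁻¹ * (g * (ρ k * a * ρ k⁻¹)) * ρ k := by simp only [mul_assoc]
              _ = _ := by rw [hga]) with h | h
      · left; rw [← hback g, h]; simp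
      · right; rw [← h, hback]
  · intro a ha y hy hya w hw hyw
    obtain ⟨⟨haR, haI⟩, ha0, hamin⟩ := (hS a).1 ha
    have hzR : y * a ∈ ringOf ρ A := mul_mem hy haR
    obtain ⟨m, hm, hme⟩ := exists_idempotent_pow (y * a)
    obtain ⟨j, rfl⟩ : ∃ j, m = j + 1 := ⟨m - 1, by omega⟩
    have hza : (y * a) ^ (j + 1) * a = (y * a) ^ (j + 1) := by
      rw [pow_succ, mul_assoc, mul_assoc y a a, haI]
    rcases hamin _ ⟨pow_mem hzR _, hme⟩ hza with h | h
    · exact absurd (ringOf_reduced ρ A hA hcop hzR h) hya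
    · calc w = a w := hw.symm
        _ = ((y * a) ^ (j + 1)) w := by rw [h]
        _ = ((y * a) ^ j) (y (a w)) := by rw [pow_succ]; rfl
        _ = 0 := by rw [hw, hyw, map_zero]

/-- If the algebra is not a field there is a system of imprimitivity. -/
theorem exists_sys [A.Normal] [Nontrivial V] (hA : ∀ a ∈ A, ∀ b ∈ A, a * b = b * a)
    (hcop : (Nat.card A).Coprime p) {x : Module.End (ZMod p) V} (hx : x ∈ ringOf ρ A)
    (hx0 : x ≠ 0) (hxi : ¬ Function.Injective x) :
    ∃ sy : Sys ρ, 2 ≤ sy.S.card ∧ ∀ a ∈ sy.S, a ∈ ringOf ρ A := by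
  obtain ⟨sy, hsR, hfield⟩ := exists_finest ρ A hA hcop
  refine ⟨sy, ?_, hsR⟩
  by_contra hc
  have hcard : sy.S.card ≤ 1 := by omega
  have hne : sy.S.Nonempty := by
    rw [Finset.nonempty_iff_ne_empty]
    intro h
    have := sy.sum_eq
    rw [h, Finset.sum_empty] at this
    exact zero_ne_one this
  obtain ⟨a, ha⟩ := hne
  have ha1 : a = 1 := by
    rw [← sy.sum_eq, Finset.eq_singleton_iff_unique_mem.2
      ⟨ha, fun b hb => Finset.card_le_one.1 hcard b hb a ha⟩, Finset.sum_singleton]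
  subst ha1
  refine hxi fun u w huw => ?_
  have := hfield 1 ha x hx (by rwa [mul_one]) (u - w) rfl (by rw [map_sub, huw, sub_self])
  exact sub_eq_zero.1 this

end H27.KGV
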