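import Cfsg.Agent.H27.KGV.FieldAvg

/-!
The restriction of a centraliser to one block of a system of imprimitivity.
-/

set_option autoImplicit false
set_option linter.style.haveILetI false
set_option linter.unusedSectionVars false

namespace H27.KGV

universe u v

/-- The average class size bound in all dimensions below `n`. -/
def AvgBelow (p : ℕ) [Fact p.Prime] (n : ℕ) : Prop :=
  ∀ (K : Type u) [Group K] [Finite K] (V : Type v) [AddCommGroup V] [Module (ZMod p) V] [Finite V]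
    [Nontrivial V] (ρ : Representation (ZMod p) K V), Function.Injective ρ → Group.IsSolvable K →
    (∀ W : Submodule (ZMod p) V, (∀ k, ∀ w ∈ W, ρ k w ∈ W) → W = ⊥ ∨ W = ⊤) →
    Module.finrank (ZMod p) V < n →
    ∀ P : Subgroup K, P.Normal → (∀ a ∈ P, ∀ b ∈ P, a * b = b * a) →
    (∀ x ∈ ringOf ρ P, x ≠ 0 → Function.Injective x) →
    ∃ m, 1 ≤ m ∧ Nat.card V = Nat.card (ringOf ρ P) ^ m ∧
      (1 : ℚ) ≤ (36 : ℚ) ^ (m - 1) * commProb (Subgroup.centralizer (P : Set K))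

variable {K : Type u} [Group K] [Finite K] {p : ℕ} [Fact p.Prime]
variable {V : Type v} [AddCommGroup V] [Module (ZMod p) V] [Finite V]
variable {ρ : Representation (ZMod p) K V}

/-- The elements fixing every projection. -/
def Sys.fixer (sy : Sys ρ) : Subgroup K where
  carrier := {k | ∀ a ∈ sy.S, ρ k * a = a * ρ k}
  one_mem' a _ := by rw [map_one, one_mul, mul_one]
  mul_mem' {k l} hk hl a ha := by
    rw [map_mul, mul_assoc, hl a ha, ← mul_assoc, hk a ha, mul_assoc]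
  inv_mem' {k} hk a ha := by
    calc ρ k⁻¹ * a = ρ k⁻¹ * (a * ρ k) * ρ k⁻¹ := by rw [mul_assoc, mul_assoc, rho_mul_inv, mul_one]
      _ = ρ k⁻¹ * (ρ k * a) * ρ k⁻¹ := by rw [hk a ha]
      _ = a * ρ k⁻¹ := by rw [← mul_assoc (ρ k⁻¹), rho_inv_mul, one_mul]

/-- The stabiliser of one projection. -/
def fix1 (ρ : Representation (ZMod p) K V) (a : Module.End (ZMod p) V) : Subgroup K where
  carrier := {k | ρ k * a = a * ρ k}
  one_mem' := by show ρ 1 * a = a * ρ 1; rw [map_one, one_mul, mul_one]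
  mul_mem' {k l} hk hl := by
    show ρ (k * l) * a = a * ρ (k * l)
    rw [map_mul, mul_assoc, (hl : ρ l * a = a * ρ l), ← mul_assoc, (hk : ρ k * a = a * ρ k), mul_assoc]
  inv_mem' {k} hk := by
    show ρ k⁻¹ * a = a * ρ k⁻¹
    calc ρ k⁻¹ * a = ρ k⁻¹ * (a * ρ k) * ρ k⁻¹ := by rw [mul_assoc, mul_assoc, rho_mul_inv, mul_one]
      _ = ρ k⁻¹ * (ρ k * a) * ρ k⁻¹ := by rw [(hk : ρ k * a = a * ρ k)]
      _ = a * ρ k⁻¹ := by rw [← mul_assoc (ρ k⁻¹), rho_inv_mul, one_mul]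

theorem exists_block {n : ℕ} (hind : AvgBelow.{u, v} p n) (hsolv : Group.IsSolvable K)
    (hirr : ∀ W : Submodule (ZMod p) V, (∀ k, ∀ w ∈ W, ρ k w ∈ W) → W = ⊥ ∨ W = ⊤)
    (sy : Sys ρ) {a : Module.End (ZMod p) V} (ha : a ∈ sy.S)
    (hdim : Module.finrank (ZMod p) (LinearMap.range a) < n)
    (P : Subgroup K) [hPn : P.Normal] (hP : ∀ a ∈ P, ∀ b ∈ P, a * b = b * a) (hPS : P ≤ sy.fixer)
    (hblk : ∀ y ∈ ringOf ρ P, y * a ≠ 0 → ∀ w, a w = w → y w = 0 → w = 0)
    (M : Subgroup K) (hMP : M ≤ Subgroup.centralizer (P : Set K)) (hMS : M ≤ sy.fixer) :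
    ∃ m, 1 ≤ m ∧ Nat.card (LinearMap.range a) =
        Nat.card ((fun y => y * a) '' (ringOf ρ P : Set (Module.End (ZMod p) V))) ^ m ∧
      ∃ N : Subgroup M, ∃ _ : N.Normal, (∀ k ∈ N, ρ (k : K) * a = a) ∧
        (1 : ℚ) ≤ (36 : ℚ) ^ (m - 1) * commProb (M ⧸ N) := by
  classical
  haveI := hsolv
  haveI := finite_end (p := p) (V := V)
  set W := LinearMap.range a
  have hmem : ∀ x ∈ W, a x = x := by
    rintro x ⟨y, rfl⟩
    exact LinearMap.congr_fun (sy.idem a ha) y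
  haveI : Nontrivial W := Submodule.nontrivial_iff_ne_bot.2 fun h =>
    sy.ne a ha (LinearMap.range_eq_bot.1 h)
  set H := fix1 ρ a
  have hHW : ∀ k ∈ H, ∀ x ∈ W, ρ k x ∈ W := by
    intro k hk x hx
    refine ⟨ρ k x, ?_⟩
    calc a (ρ k x) = ρ k (a x) := (LinearMap.congr_fun (hk : ρ k * a = a * ρ k) x).symm
      _ = ρ k x := by rw [hmem x hx]
  let σ₀ : H →* Module.End (ZMod p) W :=
    { toFun := fun h => (ρ h).restrict (fun w hw => hHW h h.2 w hw)
      map_one' := LinearMap.ext fun w => Subtype.ext (by simp)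
      map_mul' := fun a b => LinearMap.ext fun w => Subtype.ext (by simp) }
  let σ : H →* (Module.End (ZMod p) W)ˣ := σ₀.toHomUnits
  let ρ₁ : Representation (ZMod p) (H ⧸ σ.ker) W :=
    (Units.coeHom (Module.End (ZMod p) W)).comp (QuotientGroup.kerLift σ)
  have hinj₁ : Function.Injective ρ₁ := Units.val_injective.comp (QuotientGroup.kerLift_injective σ)
  have hρ₁ : ∀ (h : H) (x : W), (ρ₁ (h : H ⧸ σ.ker) x : V) = ρ (h : K) x := fun h x => rfl
  -- irreducibility of the block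
  have hirr₁ : ∀ U : Submodule (ZMod p) W, (∀ k, ∀ w ∈ U, ρ₁ k w ∈ U) → U = ⊥ ∨ U = ⊤ := by
    intro U hU
    let U' := U.map W.subtype
    let X : Submodule (ZMod p) V := ⨅ k : K, U'.comap (a * ρ k)
    have hX : ∀ k, ∀ w ∈ X, ρ k w ∈ X := by
      intro k w hw
      simp only [X, Submodule.mem_iInf, Submodule.mem_comap] at hw ⊢
      intro l
      rw [show (a * ρ l) (ρ k w) = (a * ρ (l * k)) w by rw [map_mul]; rfl]
      exact hw (l * k)
    rcases hirr X hX with h | h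
    · left
      rw [Submodule.eq_bot_iff]
      intro u hu
      have hu' : ((u : V)) ∈ X := by
        simp only [X, Submodule.mem_iInf, Submodule.mem_comap]
        intro k
        by_cases hk : ρ k * a * ρ k⁻¹ = a
        · have hkH : k ∈ H := by
            show ρ k * a = a * ρ k
            conv_rhs => rw [← hk, mul_assoc, rho_inv_mul, mul_one]
          refine ⟨ρ₁ ((⟨k, hkH⟩ : H) : H ⧸ σ.ker) u, hU _ u hu, ?_⟩
          show (ρ₁ ((⟨k, hkH⟩ : H) : H ⧸ σ.ker) u : V) = a (ρ k u)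
          rw [hρ₁, hmem _ (hHW k hkH u u.2)]
        · have h0 : (a * ρ k) u = 0 := by
            calc (a * ρ k) u = (a * ρ k) (a u) := by rw [hmem u u.2]
              _ = (a * (ρ k * a * ρ k⁻¹) * ρ k) u := by
                  simp only [mul_assoc, rho_inv_mul, mul_one]; rfl
              _ = 0 := by
                  rw [sy.orth a ha _ (sy.conj k a ha) (Ne.symm hk), zero_mul, LinearMap.zero_apply]
          rw [h0]
          exact zero_mem _
      rw [h, Submodule.mem_bot] at hu'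
      exact Subtype.ext hu'
    · right
      rw [eq_top_iff]
      rintro ⟨w, hw⟩ -
      have hw' : w ∈ X := h ▸ Submodule.mem_top
      simp only [X, Submodule.mem_iInf, Submodule.mem_comap] at hw'
      obtain ⟨u, hu, he⟩ := hw' 1
      rw [map_one, mul_one, hmem w hw] at he
      rwa [show (⟨w, hw⟩ : W) = u from Subtype.ext he.symm]
  -- the image of `P`
  have hPH : P ≤ H := fun z hz => hPS hz a ha
  let π := QuotientGroup.mk' σ.ker
  let P₁ : Subgroup (H ⧸ σ.ker) := (P.subgroupOf H).map π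
  have hP₁n : P₁.Normal := Subgroup.Normal.map inferInstance _ (QuotientGroup.mk'_surjective _)
  have hP₁ : ∀ x ∈ P₁, ∀ y ∈ P₁, x * y = y * x := by
    rintro _ ⟨x, hx, rfl⟩ _ ⟨y, hy, rfl⟩
    rw [← map_mul, ← map_mul]
    exact congrArg π (Subtype.ext (hP _ hx _ hy))
  -- the algebra of the image
  set R := ringOf ρ P
  set R₁ := ringOf ρ₁ P₁
  let Rel := fun (y : Module.End (ZMod p) V) (z : Module.End (ZMod p) W) => ∀ x : W, (z x : V) = y x
  have hto : ∀ y ∈ R, ∃ z ∈ R₁, Rel y z := by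
    intro y hy
    induction hy using Algebra.adjoin_induction with
    | mem y hy =>
      obtain ⟨k, hk, rfl⟩ := hy
      exact ⟨_, rho_mem_ringOf ρ₁ P₁ ⟨⟨k, hPH hk⟩, hk, rfl⟩, fun x => rfl⟩
    | algebraMap r => exact ⟨algebraMap _ _ r, Subalgebra.algebraMap_mem _ r, fun x => rfl⟩
    | add y₁ y₂ _ _ h₁ h₂ =>
      obtain ⟨z₁, hz₁, hr₁⟩ := h₁
      obtain ⟨z₂, hz₂, hr₂⟩ := h₂
      exact ⟨z₁ + z₂, add_mem hz₁ hz₂, fun x => by simp [hr₁ x, hr₂ x]⟩
    | mul y₁ y₂ _ _ h₁ h₂ =>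
      obtain ⟨z₁, hz₁, hr₁⟩ := h₁
      obtain ⟨z₂, hz₂, hr₂⟩ := h₂
      exact ⟨z₁ * z₂, mul_mem hz₁ hz₂, fun x => by
        rw [Module.End.mul_apply, Module.End.mul_apply, hr₁, hr₂]⟩
  have hfrom : ∀ z ∈ R₁, ∃ y ∈ R, Rel y z := by
    intro z hz
    induction hz using Algebra.adjoin_induction with
    | mem z hz =>
      obtain ⟨q, hq, rfl⟩ := hz
      obtain ⟨k, hk, rfl⟩ := hq
      exact ⟨ρ k, rho_mem_ringOf ρ P hk, fun x => rfl⟩
    | algebraMap r => exact ⟨algebraMap _ _ r, Subalgebra.algebraMap_mem _ r, fun x => rfl⟩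
    | add z₁ z₂ _ _ h₁ h₂ =>
      obtain ⟨y₁, hy₁, hr₁⟩ := h₁
      obtain ⟨y₂, hy₂, hr₂⟩ := h₂
      exact ⟨y₁ + y₂, add_mem hy₁ hy₂, fun x => by simp [hr₁ x, hr₂ x]⟩
    | mul z₁ z₂ _ _ h₁ h₂ =>
      obtain ⟨y₁, hy₁, hr₁⟩ := h₁
      obtain ⟨y₂, hy₂, hr₂⟩ := h₂
      exact ⟨y₁ * y₂, mul_mem hy₁ hy₂, fun x => by
        rw [Module.End.mul_apply, Module.End.mul_apply, hr₁, hr₂]⟩
  have hfield₁ : ∀ z ∈ R₁, z ≠ 0 → Function.Injective z := by
    intro z hz hz0
    obtain ⟨y, hy, hr⟩ := hfrom z hz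
    refine (injective_iff_map_eq_zero z).2 fun x hx => Subtype.ext ?_
    refine hblk y hy (fun h => hz0 (LinearMap.ext fun w => Subtype.ext ?_)) x (hmem x x.2) ?_
    · rw [hr w, ← hmem w w.2]
      exact LinearMap.congr_fun h w
    · rw [← hr x, hx]; rfl
  obtain ⟨m, hm, hcard, hcp⟩ := hind (H ⧸ σ.ker) W ρ₁ hinj₁ inferInstance hirr₁ hdim P₁ hP₁n hP₁ hfield₁
  refine ⟨m, hm, ?_, ?_⟩
  · rw [hcard]
    congr 1
    let e : Module.End (ZMod p) W → Module.End (ZMod p) V :=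
      fun z => W.subtype ∘ₗ z ∘ₗ a.rangeRestrict
    have he : Function.Injective e := by
      intro z z' h
      refine LinearMap.ext fun x => Subtype.ext ?_
      obtain ⟨w, rfl⟩ := LinearMap.surjective_rangeRestrict a x
      exact LinearMap.congr_fun h w
    have heq : e '' (R₁ : Set (Module.End (ZMod p) W)) = (fun y => y * a) '' (R : Set _) := by
      ext f
      constructor
      · rintro ⟨z, hz, rfl⟩
        obtain ⟨y, hy, hr⟩ := hfrom z hz
        exact ⟨y, hy, LinearMap.ext fun w => (hr (a.rangeRestrict w)).symm⟩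
      · rintro ⟨y, hy, rfl⟩
        obtain ⟨z, hz, hr⟩ := hto y hy
        exact ⟨z, hz, LinearMap.ext fun w => hr (a.rangeRestrict w)⟩
    rw [← heq, Nat.card_image_of_injective he]
    rfl
  · let f₀ : M →* H := Subgroup.inclusion fun k hk => hMS hk a ha
    let f : M →* Subgroup.centralizer (P₁ : Set (H ⧸ σ.ker)) :=
      (π.comp f₀).codRestrict _ fun k => Subgroup.mem_centralizer_iff.2 (by
        rintro _ ⟨z, hz, rfl⟩
        show π z * π (f₀ k) = π (f₀ k) * π z
        rw [← map_mul, ← map_mul]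
        exact congrArg π (Subtype.ext (Subgroup.mem_centralizer_iff.1 (hMP k.2) _ hz)))
    refine ⟨f.ker, inferInstance, fun k hk => LinearMap.ext fun w => ?_, ?_⟩
    · have h1 : π (f₀ k) = 1 := congrArg Subtype.val (MonoidHom.mem_ker.1 hk)
      have h2 : (ρ₁ (π (f₀ k)) (a.rangeRestrict w) : V) = ρ (k : K) (a w) := rfl
      rw [h1, map_one] at h2
      exact h2.symm
    · refine le_trans hcp (mul_le_mul_of_nonneg_left ?_ (by positivity))
      exact commProb_le_of_injective (QuotientGroup.kerLift f) (QuotientGroup.kerLift_injective f)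

end H27.KGV
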