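import Cfsg.Agent.H27.KGV.AvgBlock

/-!
Solvable irreducible linear groups have large commuting probability.
-/

set_option autoImplicit false
set_option linter.style.haveILetI false
set_option linter.unusedSectionVars false

namespace H27.KGV

universe u v

variable {K : Type u} [Group K] [Finite K] {p : ℕ} [Fact p.Prime]
variable {V : Type v} [AddCommGroup V] [Module (ZMod p) V] [Finite V]
variable {ρ : Representation (ZMod p) K V}

/-- The index of a prime divisor group: no element fixes a vector. -/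
theorem fixed_eq_zero (hinj : Function.Injective ρ)
    (hirr : ∀ W : Submodule (ZMod p) V, (∀ k, ∀ w ∈ W, ρ k w ∈ W) → W = ⊥ ∨ W = ⊤)
    (P : Subgroup K) [P.Normal] (hP : P ≠ ⊥) {v : V} (hv : ∀ z ∈ P, ρ z v = v) : v = 0 := by
  let X : Submodule (ZMod p) V :=
    { carrier := {w | ∀ z ∈ P, ρ z w = w}
      zero_mem' := fun z _ => map_zero _
      add_mem' := fun {x y} hx hy z hz => by rw [map_add, hx z hz, hy z hz]
      smul_mem' := fun c {x} hx z hz => by rw [map_smul, hx z hz] }
  rcases hirr X (fun k w hw z hz => by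
      have hz' : k⁻¹ * z * k ∈ P := by
        have := Subgroup.Normal.conj_mem (inferInstance : P.Normal) z hz k⁻¹
        rwa [inv_inv] at this
      calc ρ z (ρ k w) = ρ (k * (k⁻¹ * z * k)) w := by
            rw [← Module.End.mul_apply, ← map_mul]; group
        _ = ρ k (ρ (k⁻¹ * z * k) w) := by rw [map_mul]; rfl
        _ = ρ k w := by rw [hw _ hz']) with h | h
  · have : v ∈ X := hv
    rwa [h, Submodule.mem_bot] at this
  · refine absurd ((Subgroup.eq_bot_iff_forall P).2 fun z hz => hinj ?_) hP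
    rw [map_one]
    refine LinearMap.ext fun w => ?_
    have : w ∈ X := h ▸ Submodule.mem_top
    exact this z hz

theorem coprime_of_abelian_normal [Nontrivial V] (hinj : Function.Injective ρ)
    (hirr : ∀ W : Submodule (ZMod p) V, (∀ k, ∀ w ∈ W, ρ k w ∈ W) → W = ⊥ ∨ W = ⊤)
    (A : Subgroup K) [A.Normal] (hA : ∀ a ∈ A, ∀ b ∈ A, a * b = b * a) :
    (Nat.card A).Coprime p := by
  rw [Nat.coprime_comm, (Fact.out : p.Prime).coprime_iff_not_dvd]
  intro hdvd
  obtain ⟨x, hx⟩ := exists_prime_orderOf_dvd_card' p hdvd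
  let Ap : Subgroup K :=
    { carrier := {a | a ∈ A ∧ a ^ p = 1}
      one_mem' := ⟨A.one_mem, one_pow _⟩
      mul_mem' := fun {a b} ha hb => ⟨A.mul_mem ha.1 hb.1, by
        rw [(show Commute a b from hA _ ha.1 _ hb.1).mul_pow, ha.2, hb.2, one_mul]⟩
      inv_mem' := fun {a} ha => ⟨A.inv_mem ha.1, by rw [inv_pow, ha.2, inv_one]⟩ }
  haveI : Ap.Normal := ⟨fun a ha g => ⟨Subgroup.Normal.conj_mem inferInstance a ha.1 g, by
    rw [conj_pow, ha.2]; simp⟩⟩
  have hAp : Ap ≠ ⊥ := fun h => by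
    have h1 : (x : K) ∈ Ap := ⟨x.2, by rw [← hx, ← Subgroup.orderOf_coe]; exact pow_orderOf_eq_one _⟩
    rw [h, Subgroup.mem_bot] at h1
    rw [show x = 1 from Subtype.ext h1, orderOf_one] at hx
    exact (Fact.out : p.Prime).one_lt.ne hx
  letI : MulAction Ap V :=
    { smul := fun a w => ρ (a : K) w
      one_smul := fun w => by show ρ (1 : K) w = w; rw [map_one]; rfl
      mul_smul := fun a b w => by show ρ ((a : K) * b) w = ρ (a : K) (ρ (b : K) w); rw [map_mul]; rfl }
  have hpA : IsPGroup p Ap := fun a => ⟨1, Subtype.ext (by rw [pow_one]; exact a.2.2)⟩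
  have hV : p ∣ Nat.card V := by
    rw [Module.natCard_eq_pow_finrank (K := ZMod p), Nat.card_zmod]
    exact dvd_pow_self p (Nat.pos_iff_ne_zero.1 Module.finrank_pos)
  obtain ⟨w, hw, hw0⟩ := hpA.exists_fixed_point_of_prime_dvd_card_of_fixed_point V hV
    (a := (0 : V)) (fun z => map_zero (ρ (z : K)))
  exact hw0 (fixed_eq_zero hinj hirr Ap hAp (fun z hz => hw ⟨z, hz⟩)).symm

theorem card_eq_prod_range (sy : Sys ρ) :
    Nat.card V = ∏ a ∈ sy.S, Nat.card (LinearMap.range a) := by
  classical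
  have hmem : ∀ a ∈ sy.S, ∀ x ∈ LinearMap.range a, a x = x := by
    rintro a ha x ⟨y, rfl⟩
    exact LinearMap.congr_fun (sy.idem a ha) y
  let Φ : V ≃ ∀ a : {a // a ∈ sy.S}, LinearMap.range a.1 :=
    { toFun := fun x a => ⟨a.1 x, x, rfl⟩
      invFun := fun z => ∑ a : {a // a ∈ sy.S}, (z a : V)
      left_inv := fun x => by
        show ∑ a : {a // a ∈ sy.S}, a.1 x = x
        rw [← LinearMap.sum_apply, Finset.sum_coe_sort sy.S (fun a => a), sy.sum_eq]
        rfl
      right_inv := fun z => funext fun b => Subtype.ext (by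
        show b.1 (∑ a : {a // a ∈ sy.S}, (z a : V)) = z b
        rw [map_sum, Finset.sum_eq_single b]
        · exact hmem _ b.2 _ (z b).2
        · intro a _ hab
          rw [← hmem _ a.2 _ (z a).2]
          exact LinearMap.congr_fun (sy.orth b.1 b.2 a.1 a.2 fun h => hab (Subtype.ext h.symm)) _
        · exact fun h => absurd (Finset.mem_univ b) h) }
  rw [Nat.card_congr Φ, Nat.card_pi]
  exact Finset.prod_coe_sort sy.S (fun a => Nat.card (LinearMap.range a))

/-- Gluing the blocks. -/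
theorem prod_le_commProb {n : ℕ} (hind : AvgBelow.{u, v} p n) (hinj : Function.Injective ρ)
    (hsolv : Group.IsSolvable K)
    (hirr : ∀ W : Submodule (ZMod p) V, (∀ k, ∀ w ∈ W, ρ k w ∈ W) → W = ⊥ ∨ W = ⊤)
    (sy : Sys ρ) (hdim : ∀ a ∈ sy.S, Module.finrank (ZMod p) (LinearMap.range a) < n)
    (P : Subgroup K) [P.Normal] (hP : ∀ a ∈ P, ∀ b ∈ P, a * b = b * a) (hPS : P ≤ sy.fixer)
    (hblk : ∀ a ∈ sy.S, ∀ y ∈ ringOf ρ P, y * a ≠ 0 → ∀ w, a w = w → y w = 0 → w = 0) :
    ∃ m : Module.End (ZMod p) V → ℕ, (∀ a ∈ sy.S, 1 ≤ m a ∧ Nat.card (LinearMap.range a) =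
        Nat.card ((fun y => y * a) '' (ringOf ρ P : Set (Module.End (ZMod p) V))) ^ m a) ∧
      (1 : ℚ) ≤ (∏ a ∈ sy.S, (36 : ℚ) ^ (m a - 1)) *
        commProb ↥(Subgroup.centralizer (P : Set K) ⊓ sy.fixer) := by
  classical
  set M := Subgroup.centralizer (P : Set K) ⊓ sy.fixer
  have h := fun a : {a // a ∈ sy.S} => exists_block hind hsolv hirr sy a.2 (hdim _ a.2) P hP hPS
    (hblk _ a.2) M inf_le_left inf_le_right
  choose m hm hcard N hN hfix hcp using h
  refine ⟨fun a => if h : a ∈ sy.S then m ⟨a, h⟩ else 0, fun a ha => ?_, ?_⟩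
  · simp only [dif_pos ha]
    exact ⟨hm _, hcard ⟨a, ha⟩⟩
  haveI := hN
  let f : M →* ∀ a, M ⧸ N a := MonoidHom.mk' (fun k a => (k : M ⧸ N a)) fun k l => rfl
  have hf : Function.Injective f := by
    refine (injective_iff_map_eq_one f).2 fun k hk => Subtype.ext (hinj ?_)
    rw [OneMemClass.coe_one, map_one]
    calc ρ (k : K) = ρ (k : K) * ∑ a ∈ sy.S, a := by rw [sy.sum_eq, mul_one]
      _ = ∑ a ∈ sy.S, a := by
          rw [Finset.mul_sum]
          exact Finset.sum_congr rfl fun a ha =>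
            hfix ⟨a, ha⟩ k ((QuotientGroup.eq_one_iff _).1 (congrFun hk ⟨a, ha⟩))
      _ = 1 := sy.sum_eq
  have h1 := commProb_le_of_injective f hf
  rw [commProb_pi] at h1
  refine le_trans ?_ (mul_le_mul_of_nonneg_left h1 (Finset.prod_nonneg fun a _ => by positivity))
  rw [← Finset.prod_coe_sort sy.S, ← Finset.prod_mul_distrib]
  refine Finset.one_le_prod fun a _ => ?_
  simp only [dif_pos a.2]
  exact hcp a

theorem avgBelow (p : ℕ) [Fact p.Prime] : ∀ n, AvgBelow.{u, v} p n := by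
  intro n
  induction n with
  | zero => intro K _ _ V _ _ _ _ ρ _ _ _ h; exact absurd h (Nat.not_lt_zero _)
  | succ n ih =>
    intro K _ _ V _ _ _ _ ρ hinj hsolv hirr hn P hPn hP hfieldP
    classical
    haveI := hsolv
    haveI := hPn
    haveI := finite_end (p := p) (V := V)
    by_cases hfield : ∀ A : Subgroup K, A.Normal → (∀ a ∈ A, ∀ b ∈ A, a * b = b * a) → P ≤ A →
        ∀ x ∈ ringOf ρ A, x ≠ 0 → Function.Injective x
    · obtain ⟨A, ⟨hAn, hAc, hPA⟩, hmax⟩ := (Set.toFinite
        {A : Subgroup K | A.Normal ∧ (∀ a ∈ A, ∀ b ∈ A, a * b = b * a) ∧ P ≤ A}).exists_maximal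
        ⟨P, hPn, hP, le_rfl⟩
      haveI := hAn
      exact avg_of_field ρ hinj hsolv A hAc
        (fun B hB hBc hAB => hmax ⟨hB, hBc, hPA.trans hAB⟩ hAB) (hfield A hAn hAc hPA) P hPA
    push Not at hfield
    obtain ⟨A, hA, hcomm, hPA, x, hx, hx0, hxi⟩ := hfield
    haveI := hA
    obtain ⟨sy₀, h₀, hR₀⟩ := exists_sys ρ A hcomm (coprime_of_abelian_normal hinj hirr A hcomm)
      hx hx0 hxi
    have hP₀ : ∀ z ∈ P, ∀ a ∈ sy₀.S, Commute (ρ z) a := fun z hz a ha =>
      ringOf_comm ρ A hcomm (rho_mem_ringOf ρ A (hPA hz)) (hR₀ a ha)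
    obtain ⟨sy, h2, hPsy, hmin⟩ : ∃ sy : Sys ρ, 2 ≤ sy.S.card ∧
        (∀ z ∈ P, ∀ a ∈ sy.S, Commute (ρ z) a) ∧ ∀ sy' : Sys ρ, 2 ≤ sy'.S.card →
        (∀ z ∈ P, ∀ a ∈ sy'.S, Commute (ρ z) a) → sy.S.card ≤ sy'.S.card := by
      have hex : ∃ m, ∃ sy : Sys ρ, 2 ≤ sy.S.card ∧ (∀ z ∈ P, ∀ a ∈ sy.S, Commute (ρ z) a) ∧
        sy.S.card = m := ⟨_, sy₀, h₀, hP₀, rfl⟩
      obtain ⟨sy, h2, hP', hm⟩ := Nat.find_spec hex
      exact ⟨sy, h2, hP', fun sy' h' h'' => hm ▸ Nat.find_min' hex ⟨sy', h', h'', rfl⟩⟩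
    letI := sy.action
    haveI : Finite {a // a ∈ sy.S} := sy.S.finite_toSet.to_subtype
    have hperm := sy.card_perm_le_pow_log h2 hirr fun sy' h hcm =>
      hmin sy' h fun z hz => hcm _ (hPsy z hz)
    have hdim : ∀ a ∈ sy.S, Module.finrank (ZMod p) (LinearMap.range a) < n := by
      intro a ha
      have hlt : Module.finrank (ZMod p) (LinearMap.range a) < Module.finrank (ZMod p) V := by
        refine Submodule.finrank_lt fun h => ?_
        obtain ⟨b, hb, hba⟩ := Finset.exists_mem_ne h2 a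
        refine sy.ne b hb (LinearMap.ext fun w => ?_)
        obtain ⟨y, rfl⟩ : w ∈ LinearMap.range a := h ▸ Submodule.mem_top
        exact LinearMap.congr_fun (sy.orth b hb a ha hba) y
      omega
    have hPS : P ≤ sy.fixer := fun z hz a ha => (hPsy z hz a ha).eq
    obtain ⟨m, hm, hcp⟩ := prod_le_commProb ih hinj hsolv hirr sy hdim P hP hPS
      fun a ha y hy hya w _ hyw => hfieldP y hy (fun h => hya (by rw [h, zero_mul]))
        (hyw.trans (map_zero y).symm)
    -- the algebra is embedded in each block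
    have hRa : ∀ a ∈ sy.S, Nat.card ((fun y => y * a) '' (ringOf ρ P : Set (Module.End (ZMod p) V))) =
        Nat.card (ringOf ρ P) := by
      intro a ha
      refine Nat.card_image_of_injOn fun y hy y' hy' h => ?_
      by_contra hne
      have hinj' := hfieldP (y - y') (sub_mem hy hy') (sub_ne_zero.2 hne)
      refine sy.ne a ha (LinearMap.ext fun w => hinj' ?_)
      rw [LinearMap.zero_apply, map_zero, LinearMap.sub_apply, sub_eq_zero]
      exact LinearMap.congr_fun h w
    have hsum : ∑ a ∈ sy.S, (m a - 1) + sy.S.card = ∑ a ∈ sy.S, m a := by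
      rw [Finset.card_eq_sum_ones, ← Finset.sum_add_distrib]
      exact Finset.sum_congr rfl fun a ha => Nat.sub_add_cancel (hm a ha).1
    refine ⟨∑ a ∈ sy.S, m a, by omega, ?_, ?_⟩
    · rw [card_eq_prod_range sy, ← Finset.prod_pow_eq_pow_sum]
      exact Finset.prod_congr rfl fun a ha => by rw [(hm a ha).2, hRa a ha]
    set Cp := Subgroup.centralizer (P : Set K)
    set σ := MulAction.toPermHom K {a // a ∈ sy.S}
    haveI : Finite σ.range := Finite.of_surjective _ σ.rangeRestrict_surjective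
    have hker : σ.ker = sy.fixer := by
      ext k
      constructor
      · intro hk a ha
        have h1 : ρ k * a * ρ k⁻¹ = a :=
          congrArg Subtype.val (Equiv.congr_fun (MonoidHom.mem_ker.1 hk) ⟨a, ha⟩)
        calc ρ k * a = ρ k * a * ρ k⁻¹ * ρ k := by rw [mul_assoc, rho_inv_mul, mul_one]
          _ = a * ρ k := by rw [h1]
      · intro hk
        refine MonoidHom.mem_ker.2 (Equiv.ext fun a => Subtype.ext ?_)
        show ρ k * a.1 * ρ k⁻¹ = a.1
        rw [hk a.1 a.2, mul_assoc, rho_mul_inv, mul_one]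
    have hsub := commProb_le_mul_sq ((Cp ⊓ sy.fixer).subgroupOf Cp)
      (Subgroup.subgroupOfEquivOfLe (inf_le_left : Cp ⊓ sy.fixer ≤ Cp)).toMonoidHom
      (Subgroup.subgroupOfEquivOfLe (inf_le_left : Cp ⊓ sy.fixer ≤ Cp)).injective
    have hidx : (((Cp ⊓ sy.fixer).subgroupOf Cp).index : ℚ) ^ 2 ≤ (36 : ℚ) ^ (sy.S.card - 1) := by
      have h1 : (Cp ⊓ sy.fixer).relIndex Cp ≤ σ.ker.index := by
        rw [Subgroup.inf_relIndex_left, ← hker]
        exact Nat.le_of_dvd (Nat.pos_of_ne_zero Subgroup.index_ne_zero_of_finite)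
          (Subgroup.relIndex_dvd_index_of_normal _ _)
      rw [Subgroup.index_ker] at h1
      have h2' := Nat.pow_le_pow_left (h1.trans hperm) 2
      calc (((Cp ⊓ sy.fixer).subgroupOf Cp).index : ℚ) ^ 2
          ≤ (((sy.S.card ^ (Nat.log 2 sy.S.card + 1)) ^ 2 : ℕ) : ℚ) := by exact_mod_cast h2'
        _ ≤ _ := by exact_mod_cast pow_log_succ_sq_le _ h2
    rw [Finset.prod_pow_eq_pow_sum] at hcp
    refine hcp.trans ?_
    rw [show ∑ a ∈ sy.S, m a - 1 = ∑ a ∈ sy.S, (m a - 1) + (sy.S.card - 1) by omega, pow_add,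
      mul_assoc]
    refine mul_le_mul_of_nonneg_left (hsub.trans ?_) (by positivity)
    rw [mul_comm]
    exact mul_le_mul_of_nonneg_right hidx (commProb_pos (M := Cp)).le

/-- The commuting probability of a solvable irreducible linear group. -/
theorem one_le_pow_mul_commProb [Nontrivial V] (hinj : Function.Injective ρ)
    (hsolv : Group.IsSolvable K)
    (hirr : ∀ W : Submodule (ZMod p) V, (∀ k, ∀ w ∈ W, ρ k w ∈ W) → W = ⊥ ∨ W = ⊤) :
    (1 : ℚ) ≤ (36 : ℚ) ^ (Module.finrank (ZMod p) V - 1) * commProb K := by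
  haveI := finite_end (p := p) (V := V)
  have hbot : ringOf ρ (⊥ : Subgroup K) = ⊥ := by
    refine le_antisymm (Algebra.adjoin_le ?_) bot_le
    rintro _ ⟨z, hz, rfl⟩
    rw [SetLike.mem_coe, Subgroup.mem_bot] at hz
    rw [hz, map_one]
    exact one_mem _
  obtain ⟨m, -, hcard, hcp⟩ := avgBelow p _ K V ρ hinj hsolv hirr (Nat.lt_succ_self _) ⊥
    inferInstance (fun a ha b _ => by rw [Subgroup.mem_bot.1 ha, one_mul, mul_one]) (fun x hx hx0 => by
      rw [hbot, Algebra.mem_bot] at hx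
      obtain ⟨r, rfl⟩ := hx
      intro u w h
      simp only [Module.algebraMap_end_apply] at h
      exact smul_right_injective V (fun h' => hx0 (by rw [h', map_zero])) h)
  have hm : Module.finrank (ZMod p) V = m := by
    rw [hbot, Module.natCard_eq_pow_finrank (K := ZMod p) (V := V),
      show Nat.card (⊥ : Subalgebra (ZMod p) (Module.End (ZMod p) V)) = Nat.card (ZMod p) from
        Nat.card_congr (Algebra.botEquiv (ZMod p) (Module.End (ZMod p) V)).toEquiv, Nat.card_zmod] at hcard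
    exact Nat.pow_right_injective (Fact.out : p.Prime).two_le hcard
  rw [hm]
  refine hcp.trans (mul_le_mul_of_nonneg_left (le_of_eq ?_) (by positivity))
  have htop : Subgroup.centralizer ((⊥ : Subgroup K) : Set K) = ⊤ :=
    eq_top_iff.2 fun k _ => Subgroup.mem_centralizer_iff.2 fun z hz => by
      rw [Subgroup.mem_bot.1 hz, one_mul, mul_one]
  rw [htop]
  exact le_antisymm (commProb_le_of_injective (Subgroup.topEquiv (G := K)).symm.toMonoidHom
      (Subgroup.topEquiv (G := K)).symm.injective)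
    (commProb_le_of_injective (Subgroup.topEquiv (G := K)).toMonoidHom
      (Subgroup.topEquiv (G := K)).injective)

open Polynomial in
/-- A normal subgroup of prime order `s ≥ 36`: the index of its centraliser and the orbits. -/
theorem prime_order_bound [Nontrivial V] (hinj : Function.Injective ρ) (hsolv : Group.IsSolvable K)
    (hirr : ∀ W : Submodule (ZMod p) V, (∀ k, ∀ w ∈ W, ρ k w ∈ W) → W = ⊥ ∨ W = ⊤)
    (P : Subgroup K) [P.Normal] {s : ℕ} (hs : s.Prime) (hPs : Nat.card P = s) (h36 : 36 ≤ s) :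
    ∃ M₀, (Subgroup.centralizer (P : Set K)).index ≤ M₀ ∧
      ((p ^ M₀ : ℕ) : ℚ) ≤ (Nat.card V : ℚ) * commProb (Subgroup.centralizer (P : Set K)) := by
  classical
  haveI := hsolv
  haveI := finite_end (p := p) (V := V)
  haveI : Fact s.Prime := ⟨hs⟩
  haveI hcyc : IsCyclic P := isCyclic_of_prime_card hPs
  have hP : ∀ a ∈ P, ∀ b ∈ P, a * b = b * a := fun a ha b hb =>
    congrArg Subtype.val (mul_comm' (⟨a, ha⟩ : P) ⟨b, hb⟩)
  have hPne : P ≠ ⊥ := fun h => by rw [h, Subgroup.card_bot] at hPs; exact hs.one_lt.ne hPs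
  have hPcl : ∀ z ∈ P, z ≠ 1 → ∀ y ∈ P, y ∈ Subgroup.zpowers z := fun z hz hz1 y hy => by
    have h1 := mem_zpowers_of_prime_card (g := (⟨z, hz⟩ : P)) (g' := ⟨y, hy⟩) hPs
      (fun h => hz1 (congrArg Subtype.val h))
    obtain ⟨i, hi⟩ := Subgroup.mem_zpowers_iff.1 h1
    exact ⟨i, congrArg Subtype.val hi⟩
  obtain ⟨sy, hsR, hblk⟩ := exists_finest ρ P hP (coprime_of_abelian_normal hinj hirr P hP)
  set R := ringOf ρ P with hR
  set Cp := Subgroup.centralizer (P : Set K)
  have hPS : P ≤ sy.fixer := fun z hz a ha => ringOf_comm ρ P hP (rho_mem_ringOf ρ P hz) (hsR a ha)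
  have hCS : Cp ≤ sy.fixer := fun c hc a ha => (commute_ringOf ρ P (fun z hz => by
    rw [← map_mul, ← map_mul, Subgroup.mem_centralizer_iff.1 hc z hz]) (hsR a ha)).symm
  -- distinct elements of `P` differ on every block
  have hsep : ∀ a ∈ sy.S, ∀ z ∈ P, ∀ z' ∈ P, ρ z * a = ρ z' * a → z = z' := by
    intro a ha z hz z' hz' h
    by_contra hne
    obtain ⟨v, hv⟩ : ∃ v, a v ≠ 0 := by
      by_contra hc
      push Not at hc
      exact sy.ne a ha (LinearMap.ext hc)
    refine hv (fixed_eq_zero hinj hirr P hPne fun y hy => ?_)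
    have hfix : ρ (z'⁻¹ * z) (a v) = a v := by
      rw [map_mul, Module.End.mul_apply, show ρ z (a v) = ρ z' (a v) from LinearMap.congr_fun h v,
        ← Module.End.mul_apply, rho_inv_mul, Module.End.one_apply]
    have hmem := hPcl (z'⁻¹ * z) (P.mul_mem (P.inv_mem hz') hz)
      (fun h' => hne (inv_mul_eq_one.1 h').symm) y hy
    exact (Subgroup.zpowers_le (H := stab ρ (a v))).2 hfix hmem
  obtain ⟨m, hm, hcp⟩ := prod_le_commProb (avgBelow p (Module.finrank (ZMod p) V + 1)) hinj hsolv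
    hirr sy (fun a _ => Nat.lt_succ_of_le (Submodule.finrank_le _)) P hP hPS hblk
  rw [inf_eq_left.2 hCS] at hcp
  let Q := fun a => Nat.card ((fun y => y * a) '' (R : Set (Module.End (ZMod p) V)))
  have hQ : ∀ a ∈ sy.S, 36 ≤ Q a := fun a ha => h36.trans (by
    rw [← hPs]
    refine Nat.card_le_card_of_injective (fun z : P => ⟨ρ (z : K) * a, ρ (z : K),
      rho_mem_ringOf ρ P z.2, rfl⟩) fun z z' h => Subtype.ext ?_
    exact hsep a ha _ z.2 _ z'.2 (congrArg Subtype.val h))
  refine ⟨Module.finrank (ZMod p) R, ?_, ?_⟩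
  · -- the conjugates of a generator are roots of its minimal polynomial on one block
    obtain ⟨x, hx⟩ := exists_prime_orderOf_dvd_card' s (show s ∣ Nat.card P from hPs.symm.dvd)
    have hx1 : (x : K) ≠ 1 := fun h => by
      rw [show x = 1 from Subtype.ext h, orderOf_one] at hx
      exact hs.one_lt.ne hx
    obtain ⟨a, ha⟩ : sy.S.Nonempty := by
      rw [Finset.nonempty_iff_ne_empty]
      intro h
      have := sy.sum_eq
      rw [h, Finset.sum_empty] at this
      exact zero_ne_one this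
    letI : CommRing R :=
      { (inferInstance : Ring R) with
        mul_comm := fun x y => Subtype.ext (ringOf_comm ρ P hP x.2 y.2) }
    let I : Ideal R :=
      { carrier := {y | y.1 * a = 0}
        zero_mem' := zero_mul a
        add_mem' := fun {y z} hy hz => by
          show (y.1 + z.1) * a = 0
          rw [add_mul, (hy : y.1 * a = 0), (hz : z.1 * a = 0), add_zero]
        smul_mem' := fun c {y} hy => by
          show c.1 * y.1 * a = 0
          rw [mul_assoc, (hy : y.1 * a = 0), mul_zero] }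
    haveI : I.IsPrime := by
      refine ⟨fun h => sy.ne a ha ?_, fun {y z} hyz => ?_⟩
      · have h1 : (1 : R) ∈ I := h ▸ Submodule.mem_top
        exact (one_mul a).symm.trans h1
      · by_cases hy : y.1 * a = 0
        · exact Or.inl hy
        refine Or.inr (LinearMap.ext fun w => ?_)
        refine hblk a ha y.1 y.2 hy _ ?_ ?_
        · show a (z.1 (a w)) = z.1 (a w)
          rw [← Module.End.mul_apply, ringOf_comm ρ P hP (hsR a ha) z.2, Module.End.mul_apply,
            ← Module.End.mul_apply (f := a), sy.idem a ha]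
        · exact LinearMap.congr_fun hyz w
    let X : R := ⟨ρ (x : K), rho_mem_ringOf ρ P x.2⟩
    let μ : Polynomial (ZMod p) := minpoly (ZMod p) X
    haveI : Module.Finite (ZMod p) R := Module.Finite.of_finite
    let τ : K → R →ₐ[ZMod p] R := fun k =>
      { toFun := fun y => ⟨ρ k * y.1 * ρ k⁻¹, conj_mem_ringOf ρ P k y.2⟩
        map_one' := Subtype.ext (by show ρ k * 1 * ρ k⁻¹ = 1; rw [mul_one, rho_mul_inv])
        map_mul' := fun y z => Subtype.ext (conj_mul' ρ k y.1 z.1).symm
        map_zero' := Subtype.ext (by show ρ k * 0 * ρ k⁻¹ = 0; simp)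
        map_add' := fun y z => Subtype.ext (by
          show ρ k * (y.1 + z.1) * ρ k⁻¹ = ρ k * y.1 * ρ k⁻¹ + ρ k * z.1 * ρ k⁻¹
          rw [mul_add, add_mul])
        commutes' := fun r => Subtype.ext (by
          show ρ k * algebraMap (ZMod p) (Module.End (ZMod p) V) r * ρ k⁻¹ = algebraMap _ _ r
          rw [← Algebra.commutes, mul_assoc, rho_mul_inv, mul_one]) }
    haveI : IsDomain (R ⧸ I) := Ideal.Quotient.isDomain I
    haveI : Nontrivial (R ⧸ I) := IsDomain.toNontrivial
    let f : R →ₐ[ZMod p] R ⧸ I := Ideal.Quotient.mkₐ (ZMod p) I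
    have hμ : μ ≠ 0 := minpoly.ne_zero (IsIntegral.of_finite _ _)
    have hroot : ∀ k : K, f (τ k X) ∈ (μ.map (algebraMap (ZMod p) (R ⧸ I))).roots.toFinset := by
      intro k
      rw [Multiset.mem_toFinset, mem_roots (map_ne_zero hμ), IsRoot.def, eval_map_algebraMap,
        aeval_algHom_apply, aeval_algHom_apply, minpoly.aeval, map_zero, map_zero]
    refine le_trans ?_ (minpoly.natDegree_le X)
    have hle : (μ.map (algebraMap (ZMod p) (R ⧸ I))).roots.toFinset.card ≤ μ.natDegree :=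
      (Multiset.toFinset_card_le _).trans ((card_roots' _).trans natDegree_map_le)
    refine le_trans ?_ hle
    rw [Subgroup.index_eq_card, ← Nat.card_eq_finsetCard]
    refine Nat.card_le_card_of_injective (fun q : K ⧸ Cp => ⟨f (τ q.out X), hroot _⟩) fun q q' h => ?_
    have h' : f (τ q.out X) = f (τ q'.out X) := congrArg Subtype.val h
    have h1 : (τ q.out X).1 * a = (τ q'.out X).1 * a := by
      have h2 : ((τ q.out X).1 - (τ q'.out X).1) * a = 0 := Ideal.Quotient.eq.1 h'
      rwa [sub_mul, sub_eq_zero] at h2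
    have h2 : q.out * (x : K) * q.out⁻¹ = q'.out * (x : K) * q'.out⁻¹ := by
      refine hsep a ha _ (Subgroup.Normal.conj_mem inferInstance _ x.2 _) _
        (Subgroup.Normal.conj_mem inferInstance _ x.2 _) ?_
      rw [map_mul, map_mul, map_mul, map_mul]
      exact h1
    rw [← QuotientGroup.out_eq' q, ← QuotientGroup.out_eq' q', QuotientGroup.eq,
      Subgroup.mem_centralizer_iff]
    intro y hy
    obtain ⟨i, rfl⟩ := hPcl x x.2 hx1 y hy
    refine (Commute.zpow_left (show Commute (x : K) (q.out⁻¹ * q'.out) from ?_) i).eq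
    show (x : K) * (q.out⁻¹ * q'.out) = q.out⁻¹ * q'.out * x
    calc (x : K) * (q.out⁻¹ * q'.out) = q.out⁻¹ * (q.out * x * q.out⁻¹) * q'.out := by group
      _ = _ := by rw [h2]; group
  · have hRcard : (p : ℕ) ^ Module.finrank (ZMod p) R ≤ ∏ a ∈ sy.S, Q a := by
      haveI : Module.Finite (ZMod p) R := Module.Finite.of_finite
      rw [← Finset.prod_coe_sort sy.S Q, ← Nat.card_pi]
      refine le_trans (le_of_eq ?_) (Nat.card_le_card_of_injective
        (fun y : R => fun a : {a // a ∈ sy.S} =>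
          (⟨y.1 * a.1, y.1, y.2, rfl⟩ : (fun z => z * a.1) '' (R : Set (Module.End (ZMod p) V))))
        fun y y' h => Subtype.ext ?_)
      · rw [Module.natCard_eq_pow_finrank (K := ZMod p) (V := R), Nat.card_zmod]
      · calc y.1 = y.1 * ∑ a ∈ sy.S, a := by rw [sy.sum_eq, mul_one]
          _ = y'.1 * ∑ a ∈ sy.S, a := by
              rw [Finset.mul_sum, Finset.mul_sum]
              exact Finset.sum_congr rfl fun a ha => congrArg Subtype.val (congrFun h ⟨a, ha⟩)
          _ = y'.1 := by rw [sy.sum_eq, mul_one]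
    calc ((p ^ Module.finrank (ZMod p) R : ℕ) : ℚ) ≤ ∏ a ∈ sy.S, (Q a : ℚ) := by
          rw [← Nat.cast_prod]; exact Nat.cast_le.2 hRcard
      _ ≤ (∏ a ∈ sy.S, (Q a : ℚ)) *
            ((∏ a ∈ sy.S, (36 : ℚ) ^ (m a - 1)) * commProb Cp) :=
          le_mul_of_one_le_right (Finset.prod_nonneg fun a _ => Nat.cast_nonneg _) hcp
      _ ≤ (∏ a ∈ sy.S, (Nat.card (LinearMap.range a) : ℚ)) * commProb Cp := by
          rw [← mul_assoc, ← Finset.prod_mul_distrib]
          refine mul_le_mul_of_nonneg_right (Finset.prod_le_prod (fun a _ => by positivity)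
            fun a ha => ?_) (commProb_pos (M := Cp)).le
          rw [(hm a ha).2, Nat.cast_pow]
          obtain ⟨j, hj⟩ : ∃ j, m a = j + 1 := ⟨m a - 1, by have := (hm a ha).1; omega⟩
          rw [hj, Nat.add_sub_cancel, pow_succ']
          exact mul_le_mul_of_nonneg_left
            (pow_le_pow_left₀ (by norm_num) (by exact_mod_cast hQ a ha) j) (Nat.cast_nonneg _)
      _ = _ := by rw [← Nat.cast_prod, ← card_eq_prod_range sy]

end H27.KGV
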