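import Cfsg.Agent.H27.KGV.Systems
import Cfsg.Agent.H19.SelfDual

/-!
Gluing large orbits from invariant pieces.
-/

set_option autoImplicit false
set_option linter.style.haveILetI false
set_option linter.unusedSectionVars false

namespace H27.KGV

universe u v

variable {K : Type u} [Group K] [Finite K] {p : ℕ} [Fact p.Prime]
variable {V : Type v} [AddCommGroup V] [Module (ZMod p) V] [Finite V]

/-- The large orbit property in all dimensions below `n`. -/
def LargeBelow (p : ℕ) [Fact p.Prime] (n : ℕ) : Prop :=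
  ∀ (K : Type u) [Group K] [Finite K] (V : Type v) [AddCommGroup V] [Module (ZMod p) V] [Finite V]
    [Nontrivial V] (ρ : Representation (ZMod p) K V), Function.Injective ρ → Group.IsSolvable K →
    (Nat.card K).Coprime p → Module.finrank (ZMod p) V < n →
    ∃ v : V, Nat.card {k : K // ρ k v = v} ≤ 9 ^ (Module.finrank (ZMod p) V - 1)

variable {n : ℕ} (hind : LargeBelow.{u, v} p n) (ρ : Representation (ZMod p) K V)

include hind in
/-- A vector of an invariant piece whose stabiliser induces a small group on it. -/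
theorem exists_piece (hsolv : Group.IsSolvable K) (hcop : (Nat.card K).Coprime p)
    (H : Subgroup K) (W : Submodule (ZMod p) V) (hW0 : W ≠ ⊥)
    (hW : ∀ h ∈ H, ∀ w ∈ W, ρ h w ∈ W) (hdim : Module.finrank (ZMod p) W < n) :
    ∃ w ∈ W, ∃ f : {k : K // k ∈ H ∧ ρ k w = w} → Fin (9 ^ (Module.finrank (ZMod p) W - 1)),
      ∀ k k', f k = f k' → ∀ x ∈ W, ρ k.1 x = ρ k'.1 x := by
  classical
  haveI := hsolv
  haveI : Nontrivial W := Submodule.nontrivial_iff_ne_bot.2 hW0
  let σ₀ : H →* Module.End (ZMod p) W :=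
    { toFun := fun h => (ρ h).restrict (fun w hw => hW h h.2 w hw)
      map_one' := LinearMap.ext fun w => Subtype.ext (by simp)
      map_mul' := fun a b => LinearMap.ext fun w => Subtype.ext (by simp) }
  let σ : H →* (Module.End (ZMod p) W)ˣ := σ₀.toHomUnits
  let σb : H ⧸ σ.ker →* Module.End (ZMod p) W :=
    (Units.coeHom (Module.End (ZMod p) W)).comp (QuotientGroup.kerLift σ)
  have hinj : Function.Injective σb :=
    Units.val_injective.comp (QuotientGroup.kerLift_injective σ)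
  have hcop' : (Nat.card (H ⧸ σ.ker)).Coprime p :=
    hcop.coprime_dvd_left ((Subgroup.card_quotient_dvd_card σ.ker).trans (Subgroup.card_subgroup_dvd_card H))
  obtain ⟨⟨w, hw⟩, hle⟩ := hind (H ⧸ σ.ker) W σb hinj inferInstance hcop' hdim
  refine ⟨w, hw, ?_⟩
  haveI := Fintype.ofFinite {q : H ⧸ σ.ker // σb q ⟨w, hw⟩ = ⟨w, hw⟩}
  rw [Nat.card_eq_fintype_card] at hle
  let e := (Fintype.equivFin {q : H ⧸ σ.ker // σb q ⟨w, hw⟩ = ⟨w, hw⟩}).toEmbedding.trans
    (Fin.castLEEmb hle)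
  refine ⟨fun k => e ⟨((⟨k.1, k.2.1⟩ : H) : H ⧸ σ.ker), Subtype.ext k.2.2⟩, fun k k' h x hx => ?_⟩
  have h1 := congrArg σb (congrArg Subtype.val (e.injective h))
  exact congrArg Subtype.val (LinearMap.congr_fun h1 ⟨x, hx⟩)

include hind in
/-- The reducible case. -/
theorem exists_of_reducible (hinj : Function.Injective ρ) (hsolv : Group.IsSolvable K)
    (hcop : (Nat.card K).Coprime p) (hn : Module.finrank (ZMod p) V ≤ n)
    (W : Submodule (ZMod p) V) (hW : ∀ k, ∀ w ∈ W, ρ k w ∈ W) (hW0 : W ≠ ⊥) (hW1 : W ≠ ⊤) :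
    ∃ v : V, Nat.card {k : K // ρ k v = v} ≤ 9 ^ (Module.finrank (ZMod p) V - 1) := by
  have hcard : (Nat.card K : ZMod p) ≠ 0 := by
    rw [Ne, ZMod.natCast_eq_zero_iff]
    exact (Fact.out : p.Prime).coprime_iff_not_dvd.1 hcop.symm
  obtain ⟨U, hU, hUW, hUW'⟩ := H19.SelfDual.exists_compl (ρ := ρ) hcard (L := W) (Z := ⊤) hW
    (fun _ _ _ => trivial) le_top
  have hU0 : U ≠ ⊥ := fun h => hW1 (by rw [← hUW', h, bot_sup_eq])
  have hsum := Submodule.finrank_sup_add_finrank_inf_eq U W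
  rw [hUW', hUW, finrank_top, finrank_bot, add_zero] at hsum
  have h1 : 0 < Module.finrank (ZMod p) W := Nat.pos_of_ne_zero fun h => hW0 (Submodule.finrank_eq_zero.1 h)
  have h2 : 0 < Module.finrank (ZMod p) U := Nat.pos_of_ne_zero fun h => hU0 (Submodule.finrank_eq_zero.1 h)
  obtain ⟨w, hw, f, hf⟩ := exists_piece hind ρ hsolv hcop ⊤ W hW0 (fun h _ => hW h) (by omega)
  obtain ⟨u, hu, g, hg⟩ := exists_piece hind ρ hsolv hcop ⊤ U hU0 (fun h _ => hU h) (by omega)
  have hfix : ∀ k, ρ k (w + u) = w + u → ρ k w = w ∧ ρ k u = u := by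
    intro k hk
    rw [map_add] at hk
    have h3 : ρ k u - u ∈ U ⊓ W := ⟨U.sub_mem (hU k u hu) hu, by
      rw [show ρ k u - u = w - ρ k w by rw [sub_eq_sub_iff_add_eq_add, add_comm, hk]]
      exact W.sub_mem hw (hW k w hw)⟩
    rw [hUW, Submodule.mem_bot, sub_eq_zero] at h3
    exact ⟨by rw [h3] at hk; exact add_right_cancel hk, h3⟩
  refine ⟨w + u, ?_⟩
  refine (Nat.card_le_card_of_injective (fun k : {k : K // ρ k (w + u) = w + u} =>
    (f ⟨k.1, trivial, (hfix k.1 k.2).1⟩, g ⟨k.1, trivial, (hfix k.1 k.2).2⟩)) ?_).trans ?_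
  · intro k k' h
    simp only [Prod.mk.injEq] at h
    refine Subtype.ext (hinj (LinearMap.ext fun x => ?_))
    have hx : x ∈ U ⊔ W := hUW' ▸ Submodule.mem_top
    obtain ⟨a, ha, b, hb, rfl⟩ := Submodule.mem_sup.1 hx
    rw [map_add, map_add, hg _ _ h.2 a ha, hf _ _ h.1 b hb]
  · rw [Nat.card_prod, Nat.card_fin, Nat.card_fin, ← pow_add]
    exact Nat.pow_le_pow_right (by norm_num) (by omega)

include hind in
/-- The imprimitive case. -/
theorem exists_of_system (hinj : Function.Injective ρ) (hsolv : Group.IsSolvable K)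
    (hcop : (Nat.card K).Coprime p) (hn : Module.finrank (ZMod p) V ≤ n)
    (hirr : ∀ W : Submodule (ZMod p) V, (∀ k, ∀ w ∈ W, ρ k w ∈ W) → W = ⊥ ∨ W = ⊤)
    (sy₀ : Sys ρ) (h₀ : 2 ≤ sy₀.S.card) :
    ∃ v : V, Nat.card {k : K // ρ k v = v} ≤ 9 ^ (Module.finrank (ZMod p) V - 1) := by
  classical
  haveI := hsolv
  obtain ⟨sy, h2, hmin⟩ : ∃ sy : Sys ρ, 2 ≤ sy.S.card ∧
      ∀ sy' : Sys ρ, 2 ≤ sy'.S.card → sy.S.card ≤ sy'.S.card := by
    have hex : ∃ m, ∃ sy : Sys ρ, 2 ≤ sy.S.card ∧ sy.S.card = m := ⟨_, sy₀, h₀, rfl⟩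
    obtain ⟨sy, h2, hm⟩ := Nat.find_spec hex
    exact ⟨sy, h2, fun sy' h' => hm ▸ Nat.find_min' hex ⟨sy', h', rfl⟩⟩
  letI := sy.action
  haveI : Finite {a // a ∈ sy.S} := sy.S.finite_toSet.to_subtype
  have hperm := sy.card_perm_le h2 hirr hmin
  have htr := sy.transitive hirr
  set σ := MulAction.toPermHom K {a // a ∈ sy.S}
  have hm : Nat.card {a // a ∈ sy.S} = sy.S.card := by rw [Nat.card_eq_finsetCard]
  obtain ⟨a₀⟩ : Nonempty {a // a ∈ sy.S} := Finite.card_pos_iff.1 (by omega)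
  have hsmul : ∀ (k : K) (a : {a // a ∈ sy.S}) (x : V), (k • a : {a // a ∈ sy.S}).1 (ρ k x) = ρ k (a.1 x) := by
    intro k a x
    rw [show ((k • a : {a // a ∈ sy.S}) : Module.End (ZMod p) V) = ρ k * a.1 * ρ k⁻¹ from rfl,
      Module.End.mul_apply, Module.End.mul_apply]
    rw [H19.SelfDual.inv_apply_apply]
  choose g hg using fun a : {a // a ∈ sy.S} => htr.exists_smul_eq a₀ a
  let W := fun a : {a // a ∈ sy.S} => LinearMap.range a.1
  have hmemW : ∀ (a : {a // a ∈ sy.S}) (x : V), x ∈ W a → a.1 x = x := by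
    rintro a x ⟨y, rfl⟩
    exact LinearMap.congr_fun (sy.idem a.1 a.2) y
  have hWk : ∀ (k : K) (a : {a // a ∈ sy.S}) (x : V), x ∈ W a → ρ k x ∈ W (k • a) := fun k a x hx =>
    ⟨ρ k x, by rw [hsmul, hmemW a x hx]⟩
  let E : ∀ a, W a₀ ≃ W a := fun a =>
    { toFun := fun x => ⟨ρ (g a) x, by have := hWk (g a) a₀ x x.2; rwa [hg] at this⟩
      invFun := fun x => ⟨ρ (g a)⁻¹ x, by
        have := hWk (g a)⁻¹ a x x.2
        rwa [inv_smul_eq_iff.2 (hg a).symm] at this⟩
      left_inv := fun x => Subtype.ext (H19.SelfDual.inv_apply_apply (g a) (x : V))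
      right_inv := fun x => Subtype.ext (by
        show ρ (g a) (ρ (g a)⁻¹ x) = x
        rw [← Module.End.mul_apply, rho_mul_inv, Module.End.one_apply]) }
  haveI : Fintype {a // a ∈ sy.S} := Fintype.ofFinite {a // a ∈ sy.S}
  have hsum : ∀ x : V, ∑ a : {a // a ∈ sy.S}, a.1 x = x := by
    intro x
    rw [← LinearMap.sum_apply, show ∑ a : {a // a ∈ sy.S}, a.1 = 1 from
      ((Finset.sum_subtype sy.S (fun _ => Iff.rfl) (fun a => a)).symm.trans sy.sum_eq)]
    rfl
  have hcomp : ∀ (z : ∀ a : {a // a ∈ sy.S}, W a) (b : {a // a ∈ sy.S}), b.1 (∑ a, (z a : V)) = z b := by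
    intro z b
    rw [map_sum, Finset.sum_eq_single b]
    · exact hmemW b _ (z b).2
    · intro a _ hab
      rw [← hmemW a _ (z a).2]
      exact LinearMap.congr_fun (sy.orth b.1 b.2 a.1 a.2 fun h => hab (Subtype.ext h.symm)) _
    · exact fun h => absurd (Finset.mem_univ b) h
  let Φ : V ≃ ∀ a : {a // a ∈ sy.S}, W a :=
    { toFun := fun x a => ⟨a.1 x, x, rfl⟩
      invFun := fun z => ∑ a, (z a : V)
      left_inv := hsum
      right_inv := fun z => funext fun b => Subtype.ext (hcomp z b) }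
  set b := Module.finrank (ZMod p) (W a₀)
  have hdim : Module.finrank (ZMod p) V = b * sy.S.card := by
    have h1 := Nat.card_congr Φ
    rw [Nat.card_pi, Finset.prod_congr rfl (fun a _ => (Nat.card_congr (E a)).symm), Finset.prod_const,
      Finset.card_univ, ← Nat.card_eq_fintype_card, hm, Module.natCard_eq_pow_finrank (K := ZMod p),
      Module.natCard_eq_pow_finrank (K := ZMod p) (V := W a₀), Nat.card_zmod, ← pow_mul] at h1
    exact Nat.pow_right_injective (Fact.out : p.Prime).two_le h1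
  have hW0 : W a₀ ≠ ⊥ := fun h => sy.ne a₀.1 a₀.2 (LinearMap.range_eq_bot.1 h)
  have hb0 : 0 < b := Nat.pos_of_ne_zero fun h => hW0 (Submodule.finrank_eq_zero.1 h)
  have hbn : b < n := by
    have : b * 2 ≤ b * sy.S.card := Nat.mul_le_mul_left _ h2
    omega
  obtain ⟨w, hw, f, hf⟩ := exists_piece hind ρ hsolv hcop (MulAction.stabilizer K a₀) (W a₀) hW0
    (fun h hh x hx => by
      have := hWk h a₀ x hx
      rwa [MulAction.mem_stabilizer_iff.1 hh] at this) hbn
  let wv : ∀ a, W a := fun a => E a ⟨w, hw⟩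
  let v := ∑ a, (wv a : V)
  refine ⟨v, ?_⟩
  have hk : ∀ k, ρ k v = v → ∀ a, (g (k • a))⁻¹ * k * g a ∈ MulAction.stabilizer K a₀ ∧
      ρ ((g (k • a))⁻¹ * k * g a) w = w := by
    intro k hk a
    refine ⟨?_, ?_⟩
    · rw [MulAction.mem_stabilizer_iff, mul_smul, mul_smul, hg, inv_smul_eq_iff, hg]
    · have h1 : ρ k (wv a : V) = wv (k • a) := by
        rw [← hcomp wv a, ← hcomp wv (k • a), ← hsmul]
        exact congrArg _ hk
      rw [map_mul, map_mul, Module.End.mul_apply, Module.End.mul_apply,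
        show ρ (g a) w = (wv a : V) from rfl, h1]
      exact H19.SelfDual.inv_apply_apply _ _
  refine (Nat.card_le_card_of_injective (fun k : {k : K // ρ k v = v} =>
    ((⟨σ k.1, k.1, rfl⟩ : σ.range), fun a => f ⟨_, hk k.1 k.2 a⟩)) ?_).trans ?_
  · intro k k' h
    simp only [Prod.mk.injEq] at h
    refine Subtype.ext (hinj (LinearMap.ext fun x => ?_))
    rw [← hsum x, map_sum, map_sum]
    refine Finset.sum_congr rfl fun a _ => ?_
    have hσ : σ k.1 = σ k'.1 := congrArg Subtype.val h.1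
    have hka : k.1 • a = k'.1 • a := Equiv.congr_fun hσ a
    have h2 := hf _ _ (congrFun h.2 a) _ ((E a).symm ⟨a.1 x, x, rfl⟩).2
    simp only [map_mul, Module.End.mul_apply] at h2
    rw [show ρ (g a) ((((E a).symm ⟨a.1 x, x, rfl⟩ : W a₀)) : V) = a.1 x from
      congrArg Subtype.val ((E a).apply_symm_apply ⟨a.1 x, x, rfl⟩), ← hka] at h2
    have h3 := congrArg (ρ (g (k.1 • a))) h2
    simpa only [← Module.End.mul_apply, ← mul_assoc, rho_mul_inv, one_mul] using h3
  · haveI : Finite σ.range := Finite.of_surjective _ σ.rangeRestrict_surjective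
    rw [Nat.card_prod, Nat.card_fun, Nat.card_fin, hm, ← pow_mul, hdim]
    refine (Nat.mul_le_mul_right _ hperm).trans ?_
    rw [← pow_add]
    refine Nat.pow_le_pow_right (by norm_num) ?_
    rw [show Module.finrank (ZMod p) (W a₀) = b from rfl, Nat.sub_one_mul]
    have : 1 * sy.S.card ≤ b * sy.S.card := Nat.mul_le_mul_right _ hb0
    omega

end H27.KGV
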