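import Cfsg.Agent.H27.KGV.AvgBound
import Cfsg.Agent.H81.Fitting
import Cfsg.Agent.H1.Fitting

/-!
A lower bound for the class number of a solvable group.
-/

set_option autoImplicit false
set_option linter.style.haveILetI false
set_option linter.unusedSectionVars false

namespace H27.KGV

universe u

variable {G : Type u} [Group G] [Finite G]

theorem carrier_card_le (C : Subgroup G) {y : G} (h : ∀ c ∈ C, c * y = y * c) :
    Nat.card (ConjClasses.mk y).carrier ≤ C.index := by
  classical
  let f : G ⧸ C → (ConjClasses.mk y).carrier := fun q =>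
    ⟨q.out * y * q.out⁻¹, ConjClasses.mem_carrier_iff_mk_eq.2
      (ConjClasses.mk_eq_mk_iff_isConj.2 (isConj_iff.2 ⟨q.out, rfl⟩).symm)⟩
  rw [Subgroup.index_eq_card]
  refine Nat.card_le_card_of_surjective f fun z => ?_
  obtain ⟨g, hg⟩ := isConj_iff.1 (ConjClasses.mk_eq_mk_iff_isConj.1
    (ConjClasses.mem_carrier_iff_mk_eq.1 z.2).symm)
  refine ⟨(g : G ⧸ C), Subtype.ext ?_⟩
  obtain ⟨c, hc⟩ : ∃ c : C, (Quotient.out (g : G ⧸ C)) = g * c := by
    refine ⟨⟨g⁻¹ * Quotient.out (g : G ⧸ C), ?_⟩, (mul_inv_cancel_left _ _).symm⟩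
    exact QuotientGroup.eq.1 (QuotientGroup.out_eq' _).symm
  show Quotient.out (g : G ⧸ C) * y * (Quotient.out (g : G ⧸ C))⁻¹ = z.1
  rw [hc, ← hg, mul_inv_rev]
  calc g * c * y * ((c : G)⁻¹ * g⁻¹) = g * (c * y * (c : G)⁻¹) * g⁻¹ := by group
    _ = g * y * g⁻¹ := by rw [h c c.2, mul_inv_cancel_right]

/-- Classes meeting a normal subgroup centralised by a subgroup of small index. -/
theorem card_le_classes_mul (N C : Subgroup G) (h : ∀ c ∈ C, ∀ y ∈ N, c * y = y * c) :
    Nat.card N + C.index ≤ Nat.card (ConjClasses G) * C.index + 1 ∧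
      Nat.card N ≤ Nat.card (ConjClasses G) * C.index := by
  classical
  haveI := Fintype.ofFinite G
  haveI : Fintype (ConjClasses G) := Fintype.ofFinite _
  let s : Finset G := (Finset.univ : Finset G).filter fun y => y ∈ N
  have hs : Nat.card N = s.card := by
    rw [Nat.card_eq_fintype_card, Fintype.card_subtype]
  have hfib : ∀ c : ConjClasses G, (s.filter fun y => ConjClasses.mk y = c).card ≤ C.index := by
    intro c
    rcases (s.filter fun y => ConjClasses.mk y = c).eq_empty_or_nonempty with h0 | ⟨y, hy⟩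
    · rw [h0]; exact Nat.zero_le _
    simp only [s, Finset.mem_filter, Finset.mem_univ, true_and] at hy
    refine le_trans ?_ (carrier_card_le C (fun c hc => h c hc y hy.1))
    rw [← Nat.card_eq_finsetCard]
    refine Nat.card_le_card_of_injective (fun z => ⟨z.1, ?_⟩) ?_
    swap
    · intro z z' hz
      exact Subtype.ext (Subtype.mk.inj hz)
    have := z.2
    simp only [Finset.mem_filter] at this
    rw [hy.2]
    exact ConjClasses.mem_carrier_iff_mk_eq.2 this.2
  have htot : s.card = ∑ c : ConjClasses G, (s.filter fun y => ConjClasses.mk y = c).card :=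
    Finset.card_eq_sum_card_fiberwise fun y _ => Finset.mem_univ _
  have h1 : (s.filter fun y => ConjClasses.mk y = ConjClasses.mk (1 : G)).card = 1 := by
    rw [Finset.card_eq_one]
    refine ⟨1, ?_⟩
    ext y
    simp only [s, Finset.mem_filter, Finset.mem_univ, true_and, Finset.mem_singleton,
      ConjClasses.mk_eq_mk_iff_isConj]
    exact ⟨fun h => isConj_one_left.1 h.2, fun h => by subst h; exact ⟨N.one_mem, IsConj.refl 1⟩⟩
  rw [← Finset.add_sum_erase _ _ (Finset.mem_univ (ConjClasses.mk (1 : G))), h1] at htot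
  have h2 : ∑ c ∈ Finset.univ.erase (ConjClasses.mk (1 : G)),
      (s.filter fun y => ConjClasses.mk y = c).card ≤ (Nat.card (ConjClasses G) - 1) * C.index := by
    refine (Finset.sum_le_card_nsmul _ _ _ fun c _ => hfib c).trans (le_of_eq ?_)
    rw [smul_eq_mul, Finset.card_erase_of_mem (Finset.mem_univ _), Finset.card_univ,
      Nat.card_eq_fintype_card]
  have hk : 0 < Nat.card (ConjClasses G) := Nat.card_pos
  have hC : 0 < C.index := Nat.pos_of_ne_zero Subgroup.index_ne_zero_of_finite
  obtain ⟨j, hj⟩ : ∃ j, Nat.card (ConjClasses G) = j + 1 := ⟨_, (Nat.sub_add_cancel hk).symm⟩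
  rw [hj, Nat.add_sub_cancel] at h2
  rw [hs, hj, add_mul, one_mul]
  constructor <;> omega

open scoped IsMulCommutative in
/-- Conjugation on an abelian normal subgroup. -/
def conjEnd (N : Subgroup G) [N.Normal] [IsMulCommutative N] (s : ℕ)
    [Module (ZMod s) (Additive N)] : G →* Module.End (ZMod s) (Additive N) where
  toFun g := AddMonoidHom.toZModLinearMap s
    (MonoidHom.toAdditive (MulAut.conjNormal g : MulAut N).toMonoidHom)
  map_one' := by
    refine LinearMap.ext fun x => ?_
    show Additive.ofMul ((MulAut.conjNormal (1 : G) : MulAut N) x.toMul) = x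
    rw [map_one]; rfl
  map_mul' g h := by
    refine LinearMap.ext fun x => ?_
    show Additive.ofMul ((MulAut.conjNormal (g * h) : MulAut N) x.toMul) =
      Additive.ofMul ((MulAut.conjNormal g : MulAut N) ((MulAut.conjNormal h : MulAut N) x.toMul))
    rw [map_mul]; rfl

open scoped IsMulCommutative in
/-- The representation on a minimal normal elementary abelian subgroup. -/
theorem chief_elim_aux {motive : Prop} (N : Subgroup G) [N.Normal] (hne : N ≠ ⊥)
    (hmin : ∀ K : Subgroup G, K.Normal → K ≤ N → K = ⊥ ∨ K = N) [IsMulCommutative N] {s : ℕ}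
    [Fact s.Prime] [Module (ZMod s) (Additive N)]
    (h : ∀ (V : Type u) [AddCommGroup V] [Module (ZMod s) V] [Finite V] [Nontrivial V]
      (ρ : Representation (ZMod s) (G ⧸ Subgroup.centralizer (N : Set G)) V),
      Function.Injective ρ →
      (∀ W : Submodule (ZMod s) V, (∀ k, ∀ w ∈ W, ρ k w ∈ W) → W = ⊥ ∨ W = ⊤) →
      Nat.card V = Nat.card N → motive) : motive := by
  classical
  let ρ₀ : G →* Module.End (ZMod s) (Additive N) := conjEnd N s
  have hρ₀ : ∀ (g : G) (x : Additive N),
      ((ρ₀ g x).toMul : G) = g * (x.toMul : G) * g⁻¹ := fun g x => MulAut.conjNormal_apply g x.toMul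
  haveI : Nontrivial N := (Subgroup.nontrivial_iff_ne_bot N).2 hne
  have hker : ∀ g : G, (ρ₀ g = (1 : Module.End (ZMod s) (Additive N))) ↔
      g ∈ Subgroup.centralizer (N : Set G) := by
    intro g
    rw [Subgroup.mem_centralizer_iff]
    constructor
    · intro hg y hy
      have h1 := hρ₀ g (Additive.ofMul (⟨y, hy⟩ : N))
      rw [hg] at h1
      change y = g * y * g⁻¹ at h1
      calc y * g = g * y * g⁻¹ * g := by rw [← h1]
        _ = g * y := by group
    · intro hg
      refine LinearMap.ext fun x => Additive.toMul.injective (Subtype.ext ?_)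
      rw [hρ₀, ← hg _ x.toMul.2, mul_inv_cancel_right]
      rfl
  let ρ : Representation (ZMod s) (G ⧸ Subgroup.centralizer (N : Set G)) (Additive N) :=
    QuotientGroup.lift _ ρ₀ fun g hg => (hker g).2 hg
  refine h (Additive N) ρ ?_ ?_ (Nat.card_congr Additive.toMul)
  · refine (injective_iff_map_eq_one ρ).2 fun q hq => ?_
    obtain ⟨g, rfl⟩ := QuotientGroup.mk_surjective q
    exact (QuotientGroup.eq_one_iff _).2 ((hker g).1 hq)
  · intro W hW
    let K : Subgroup G := (W.toAddSubgroup.toSubgroup').map N.subtype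
    have hK : K.Normal := ⟨by
      rintro _ ⟨x, hx, rfl⟩ g
      exact ⟨MulAut.conjNormal g x, hW (g : G ⧸ Subgroup.centralizer (N : Set G)) (Additive.ofMul x) hx,
        MulAut.conjNormal_apply g x⟩⟩
    rcases hmin K hK (Subgroup.map_subtype_le _) with h' | h'
    · left
      rw [Submodule.eq_bot_iff]
      intro w hw
      have h1 : (w.toMul : G) ∈ K := ⟨w.toMul, hw, rfl⟩
      rw [h', Subgroup.mem_bot] at h1
      exact Additive.toMul.injective (Subtype.ext h1)
    · right
      rw [eq_top_iff]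
      intro w _
      have h1 : (w.toMul : G) ∈ K := (SetLike.ext_iff.1 h' _).2 w.toMul.2
      obtain ⟨x, hx, hxe⟩ := h1
      rw [show w = Additive.ofMul x from congrArg Additive.ofMul (Subtype.ext hxe.symm)]
      exact hx

open scoped IsMulCommutative in
/-- The representation on a minimal normal elementary abelian subgroup. -/
theorem chief_elim {motive : Prop} (N : Subgroup G) [N.Normal] (hne : N ≠ ⊥)
    (hmin : ∀ K : Subgroup G, K.Normal → K ≤ N → K = ⊥ ∨ K = N) [IsMulCommutative N] {s : ℕ}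
    [Fact s.Prime] (hexp : ∀ x ∈ N, x ^ s = 1)
    (h : ∀ (V : Type u) [AddCommGroup V] [Module (ZMod s) V] [Finite V] [Nontrivial V]
      (ρ : Representation (ZMod s) (G ⧸ Subgroup.centralizer (N : Set G)) V),
      Function.Injective ρ →
      (∀ W : Submodule (ZMod s) V, (∀ k, ∀ w ∈ W, ρ k w ∈ W) → W = ⊥ ∨ W = ⊤) →
      Nat.card V = Nat.card N → motive) : motive := by
  have hsx : ∀ x : Additive N, s • x = 0 := fun x => by
    refine Additive.toMul.injective (Subtype.ext ?_)
    simpa using hexp x.toMul x.toMul.2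
  exact @chief_elim_aux G _ _ motive N _ hne hmin _ s _ (AddCommGroup.zmodModule hsx) h

theorem classes_quotient_le (C : Subgroup G) [C.Normal] :
    Nat.card (ConjClasses (G ⧸ C)) ≤ Nat.card (ConjClasses G) :=
  Nat.card_le_card_of_surjective (ConjClasses.map (QuotientGroup.mk' C))
    (ConjClasses.map_surjective Quotient.mk''_surjective)

theorem arith_bound {k s m M₀ p : ℕ} (hp : 2 ≤ p) (hs : 37 ≤ s) (hm : s ^ 3 ≤ 2 ^ m) (hmM : m ≤ M₀)
    (h : p ^ M₀ ≤ k * k * (m * m)) : s ≤ 15 * k := by
  have h0 : 2 ^ m ≤ k * k * (m * m) :=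
    ((Nat.pow_le_pow_right (by norm_num) hmM).trans (Nat.pow_le_pow_left hp M₀)).trans h
  have hm16 : 15 ≤ m := by
    by_contra hc
    have h1 : 37 ^ 3 ≤ 2 ^ 14 :=
      (Nat.pow_le_pow_left hs 3).trans (hm.trans (Nat.pow_le_pow_right (by norm_num) (by omega)))
    norm_num at h1
  have h6 : ∀ j, 15 ≤ j → j ^ 6 ≤ 15 ^ 6 * 2 ^ j := by
    intro j hj
    induction j, hj using Nat.le_induction with
    | base => norm_num
    | succ j hj ih =>
      rw [pow_succ 2, ← mul_assoc]
      refine le_trans ?_ (Nat.mul_le_mul_right 2 ih)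
      have h1 : 15 * (j + 1) ≤ 16 * j := by omega
      have h2 : 15 ^ 6 * (j + 1) ^ 6 ≤ 16 ^ 6 * j ^ 6 := by
        rw [← mul_pow, ← mul_pow]; exact Nat.pow_le_pow_left h1 6
      norm_num at h2
      omega
  have hmain : (s * m) ^ 6 ≤ (15 * k * m) ^ 6 := by
    calc (s * m) ^ 6 = (s ^ 3) ^ 2 * m ^ 6 := by ring
      _ ≤ (2 ^ m) ^ 2 * (15 ^ 6 * 2 ^ m) := Nat.mul_le_mul (Nat.pow_le_pow_left hm 2) (h6 m hm16)
      _ = 15 ^ 6 * (2 ^ m) ^ 3 := by ring
      _ ≤ 15 ^ 6 * (k * k * (m * m)) ^ 3 := Nat.mul_le_mul_left _ (Nat.pow_le_pow_left h0 3)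
      _ = _ := by ring
  exact Nat.le_of_mul_le_mul_right ((Nat.pow_le_pow_iff_left (by norm_num)).1 hmain) (by omega)

/-- The main dichotomy. -/
theorem solvable_class_bound [Group.IsSolvable G] (p : ℕ) [Fact p.Prime] (hp37 : 37 ≤ p)
    (hp : p ∣ (Cfsg.fittingSubgroup G).index) :
    (∃ m, 0 < m ∧ 2 ^ m < p ^ 3 ∧ p ≤ Nat.card (ConjClasses G) * m) ∨
      p ≤ 15 * Nat.card (ConjClasses G) := by
  classical
  induction hn : Nat.card G using Nat.strong_induction_on generalizing G with
  | _ n ih =>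
  set F := Cfsg.fittingSubgroup G
  haveI : F.Normal := H1.fittingSubgroup_normal G
  haveI : Nontrivial G := by
    by_contra hc
    rw [not_nontrivial_iff_subsingleton] at hc
    rw [Subsingleton.elim F ⊤, Subgroup.index_top, Nat.dvd_one] at hp
    exact (Fact.out : p.Prime).one_lt.ne' hp
  obtain ⟨M, hMn, hMne, hMmin⟩ := H3.exists_minNormal (G := G)
  haveI := hMn
  obtain ⟨hMc, q, hq, hMexp, hMq, d, hd, hMd⟩ := H3.minNormal_elementary M hMne hMmin
  haveI := hMc
  haveI : Fact q.Prime := ⟨hq⟩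
  set k := Nat.card (ConjClasses G)
  by_cases hquot : p ∣ (Cfsg.fittingSubgroup (G ⧸ M)).index
  · have hlt : Nat.card (G ⧸ M) < n := by
      rw [← hn, Subgroup.card_eq_card_quotient_mul_card_subgroup M]
      refine lt_mul_of_one_lt_right Nat.card_pos ?_
      exact Finite.one_lt_card_iff_nontrivial.2 ((Subgroup.nontrivial_iff_ne_bot M).2 hMne)
    rcases ih _ hlt (G := G ⧸ M) hquot rfl with ⟨m, h1, h2, h3⟩ | h
    · exact Or.inl ⟨m, h1, h2, h3.trans (Nat.mul_le_mul_right _ (classes_quotient_le M))⟩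
    · exact Or.inr (h.trans (Nat.mul_le_mul_left _ (classes_quotient_le M)))
  set C := Subgroup.centralizer (M : Set G)
  -- the nilpotent normal subgroup of the quotient
  set Kb := Cfsg.fittingSubgroup (G ⧸ M)
  haveI : Kb.Normal := H1.fittingSubgroup_normal _
  let K := Kb.comap (QuotientGroup.mk' M)
  haveI : K.Normal := inferInstance
  haveI : Group.IsNilpotent Kb := H81.fittingSubgroup_nilpotent _
  have hKC : K ⊓ C ≤ F := by
    haveI : Group.IsNilpotent ↥(K ⊓ C) := by
      let f : ↥(K ⊓ C) →* Kb := ((QuotientGroup.mk' M).comp (K ⊓ C).subtype).codRestrict Kb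
        fun x => x.2.1
      refine Subgroup.isNilpotent_of_ker_le_center f (fun x hx => Subgroup.mem_center_iff.2 fun y =>
        Subtype.ext ?_)
      have hx' : (x : G) ∈ M := (QuotientGroup.eq_one_iff _).1 (congrArg Subtype.val hx)
      exact (Subgroup.mem_centralizer_iff.1 y.2.2 _ hx').symm
    exact H81.le_fittingSubgroup inferInstance
  have hKp : ¬ p ∣ K.index := by
    rwa [Subgroup.index_comap_of_surjective _ (QuotientGroup.mk'_surjective M)]
  let π := QuotientGroup.mk' C
  let L := K.map π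
  haveI : L.Normal := Subgroup.Normal.map inferInstance _ (QuotientGroup.mk'_surjective _)
  have hCK : M ≤ C := fun y hy => Subgroup.mem_centralizer_iff.2 fun z hz =>
    congrArg Subtype.val (mul_comm' (⟨z, hz⟩ : M) ⟨y, hy⟩)
  haveI : Group.IsNilpotent L := by
    let f : K →* Kb := ((QuotientGroup.mk' M).comp K.subtype).codRestrict Kb fun x => x.2
    let g : Kb →* G ⧸ C := (QuotientGroup.map M C (MonoidHom.id G) hCK).comp Kb.subtype
    have hrange : g.range = L := by
      ext y
      constructor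
      · rintro ⟨⟨z, hz⟩, rfl⟩
        obtain ⟨x, rfl⟩ := QuotientGroup.mk_surjective z
        exact ⟨x, hz, rfl⟩
      · rintro ⟨x, hx, rfl⟩
        exact ⟨⟨QuotientGroup.mk' M x, hx⟩, rfl⟩
    rw [← hrange]
    exact Group.nilpotent_of_surjective g.rangeRestrict g.rangeRestrict_surjective
  have hLp : p ∣ Nat.card L := by
    have h1 : F.index ∣ (K ⊓ C).index := Subgroup.index_dvd_of_le hKC
    have h2 : (K ⊓ C).index = C.relIndex K * K.index := by
      rw [← Subgroup.inf_relIndex_left, Subgroup.relIndex_mul_index inf_le_left]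
    rcases (Fact.out : p.Prime).dvd_mul.1 (h2 ▸ hp.trans h1) with h | h
    · have h3 := Subgroup.card_eq_card_quotient_mul_card_subgroup (π.comp K.subtype).ker
      rwa [show Nat.card L = C.relIndex K by
        rw [show L = (π.comp K.subtype).range by
            rw [MonoidHom.range_comp, Subgroup.range_subtype],
          ← Subgroup.index_ker, ← MonoidHom.comap_ker, QuotientGroup.ker_mk']
        rfl]
    · exact absurd h hKp
  obtain ⟨T⟩ : Nonempty (Sylow p L) := inferInstance
  haveI hTn : (T : Subgroup L).Normal := T.normal_of_normalizerCondition Group.normalizerCondition_of_isNilpotent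
  haveI := T.characteristic_of_normal hTn
  let TH : Subgroup (G ⧸ C) := (T : Subgroup L).map L.subtype
  haveI : TH.Normal := ConjAct.normal_of_characteristic_of_normal
  have hTne : TH ≠ ⊥ := by
    intro h
    have h1 := (Subgroup.map_eq_bot_iff_of_injective _ L.subtype_injective).1 h
    exact T.ne_bot_of_dvd_card hLp h1
  obtain ⟨P, hPn, hPne, hPT, hPmin⟩ := H3.exists_minNormal_le TH hTne
  haveI := hPn
  haveI : Group.IsSolvable (G ⧸ C) := inferInstance
  obtain ⟨hPc, s, hs, hPexp, -, r, hr, hPr⟩ := H3.minNormal_elementary P hPne hPmin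
  haveI := hPc
  have hTp : IsPGroup p TH := T.isPGroup'.map L.subtype
  have hsp : s = p := by
    obtain ⟨j, hj⟩ := IsPGroup.iff_card.1 (hTp.to_le hPT)
    rw [hPr] at hj
    exact (Nat.prime_dvd_prime_iff_eq hs (Fact.out : p.Prime)).1
      (hs.dvd_of_dvd_pow (hj ▸ dvd_pow_self s (by omega) : s ∣ p ^ j))
  subst hsp
  set kH := Nat.card (ConjClasses (G ⧸ C))
  have hkH : kH ≤ k := classes_quotient_le C
  set Cp := Subgroup.centralizer (P : Set (G ⧸ C))
  obtain ⟨hcls, horbP⟩ := card_le_classes_mul P Cp fun c hc y hy =>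
    (Subgroup.mem_centralizer_iff.1 hc y hy).symm
  rcases Nat.lt_or_ge r 2 with hr2 | hr2
  · -- `P` has prime order
    rw [show r = 1 by omega, pow_one] at hPr
    set m := Cp.index
    have hm0 : 0 < m := Nat.pos_of_ne_zero Subgroup.index_ne_zero_of_finite
    rcases Nat.lt_or_ge (2 ^ m) (s ^ 3) with hsmall | hbig
    · refine Or.inl ⟨m, hm0, hsmall, le_trans ?_ (Nat.mul_le_mul_right _ hkH)⟩
      rw [hPr] at hcls
      change s + m ≤ kH * m + 1 at hcls
      omega
    refine Or.inr ?_
    refine chief_elim M hMne hMmin hMexp fun V _ _ _ _ ρ hinj hirr hV => ?_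
    obtain ⟨M₀, hmM, hbound⟩ := prime_order_bound hinj inferInstance hirr P hs hPr (by omega)
    have horb : Nat.card M ≤ k * C.index := (card_le_classes_mul M C fun c hc y hy =>
      (Subgroup.mem_centralizer_iff.1 hc y hy).symm).2
    refine arith_bound hq.two_le hp37 hbig hmM ?_
    have hsub : (Nat.card (ConjClasses Cp) : ℚ) ≤ (kH : ℚ) * m := by
      have h1 := Cp.commProb_subgroup_le
      rw [commProb_def', commProb_def', ← Cp.card_mul_index, Nat.cast_mul,
        div_le_iff₀ (Nat.cast_pos.2 Nat.card_pos)] at h1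
      refine h1.trans (le_of_eq ?_)
      have hCp0 : (Nat.card Cp : ℚ) ≠ 0 := Nat.cast_ne_zero.2 Nat.card_pos.ne'
      have hm0' : (m : ℚ) ≠ 0 := Nat.cast_ne_zero.2 hm0.ne'
      change (kH : ℚ) / ((Nat.card Cp : ℚ) * m) * (m : ℚ) ^ 2 * Nat.card Cp = kH * m
      field_simp
    have horb' : (Nat.card V : ℚ) ≤ (k : ℚ) * ((Nat.card Cp : ℚ) * m) := by
      rw [hV, ← Nat.cast_mul, ← Nat.cast_mul, Cp.card_mul_index]
      exact Nat.cast_le.2 horb
    suffices h : ((q ^ M₀ : ℕ) : ℚ) ≤ ((k * k * (m * m) : ℕ) : ℚ) from Nat.cast_le.1 h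
    refine hbound.trans ?_
    rw [commProb_def', mul_div_assoc', div_le_iff₀ (Nat.cast_pos.2 Nat.card_pos)]
    have hk' : (kH : ℚ) ≤ k := Nat.cast_le.2 hkH
    calc (Nat.card V : ℚ) * Nat.card (ConjClasses Cp)
        ≤ ((k : ℚ) * ((Nat.card Cp : ℚ) * m)) * ((k : ℚ) * m) :=
          mul_le_mul horb' (hsub.trans (mul_le_mul_of_nonneg_right hk' (Nat.cast_nonneg _)))
            (Nat.cast_nonneg _) (by positivity)
      _ = _ := by push_cast; ring
  · -- `P` has rank at least two
    refine Or.inr ?_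
    refine chief_elim P hPne hPmin hPexp fun V _ _ _ _ ρ hinj hirr hV => ?_
    have h1 := one_le_pow_mul_commProb hinj inferInstance hirr
    have hdim : Module.finrank (ZMod s) V = r := by
      rw [Module.natCard_eq_pow_finrank (K := ZMod s), Nat.card_zmod, hPr] at hV
      exact Nat.pow_right_injective hs.two_le hV
    rw [hdim, commProb_def', ← Subgroup.index_eq_card, mul_div_assoc',
      le_div_iff₀ (Nat.cast_pos.2 (Nat.pos_of_ne_zero Subgroup.index_ne_zero_of_finite)), one_mul] at h1
    have h2 : Cp.index ≤ 36 ^ (r - 1) * k := by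
      have : (Cp.index : ℚ) ≤ (((36 ^ (r - 1) * Nat.card (ConjClasses ((G ⧸ C) ⧸ Cp))) : ℕ) : ℚ) := by
        push_cast; exact h1
      exact (Nat.cast_le.1 this).trans
        (Nat.mul_le_mul_left _ ((classes_quotient_le Cp).trans hkH))
    have h3 : s ^ r ≤ k * (36 ^ (r - 1) * k) :=
      hPr ▸ horbP.trans (Nat.mul_le_mul hkH h2)
    obtain ⟨j, rfl⟩ : ∃ j, r = j + 2 := ⟨r - 2, by omega⟩
    have h4 : s ^ 2 ≤ (15 * k) ^ 2 := by
      have h5 : s ^ 2 * 36 ^ j ≤ 36 * (k * k) * 36 ^ j := by
        calc s ^ 2 * 36 ^ j ≤ s ^ 2 * s ^ j := Nat.mul_le_mul_left _ (Nat.pow_le_pow_left (by omega) _)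
          _ = s ^ (j + 2) := by ring
          _ ≤ k * (36 ^ (j + 2 - 1) * k) := h3
          _ = _ := by rw [show j + 2 - 1 = j + 1 by omega]; ring
      have := Nat.le_of_mul_le_mul_right h5 (pow_pos (by norm_num) j)
      nlinarith
    exact (Nat.pow_le_pow_iff_left (by norm_num)).1 h4

end H27.KGV
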