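import Mathlib

/-!
Monotonicity of the commuting probability.
-/

set_option autoImplicit false
set_option linter.style.haveILetI false

namespace H27.KGV

theorem card_commute_le_index_mul {G : Type*} [Group G] [Finite G] (H : Subgroup G) (T : Set G) :
    Nat.card {x : G × G // x.1 ∈ T ∧ Commute x.1 x.2} ≤
      H.index * Nat.card {x : G × G // x.1 ∈ T ∧ x.2 ∈ H ∧ Commute x.1 x.2} := by
  classical
  let rep : G → G ⧸ H → G := fun x q =>
    if h : ∃ y, Commute x y ∧ (y : G ⧸ H) = q then h.choose else 1
  have hrep : ∀ x y, Commute x y → Commute x (rep x (y : G ⧸ H)) ∧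
      (rep x (y : G ⧸ H) : G ⧸ H) = y := fun x y h => by
    have hex : ∃ z, Commute x z ∧ (z : G ⧸ H) = y := ⟨y, h, rfl⟩
    simp only [rep, dif_pos hex]
    exact hex.choose_spec
  rw [Subgroup.index_eq_card, ← Nat.card_prod]
  refine Nat.card_le_card_of_injective (fun x => ((x.1.2 : G ⧸ H),
    ⟨(x.1.1, (rep x.1.1 x.1.2)⁻¹ * x.1.2), x.2.1, ?_, ?_⟩)) ?_
  · exact QuotientGroup.eq.1 (hrep _ _ x.2.2).2
  · exact (hrep _ _ x.2.2).1.inv_right.mul_right x.2.2
  · intro x y h
    simp only [Prod.mk.injEq, Subtype.mk.injEq] at h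
    obtain ⟨h1, h2, h3⟩ := h
    refine Subtype.ext (Prod.ext h2 ?_)
    rw [h1, h2] at h3
    exact mul_left_cancel h3

/-- A subgroup has at least the commuting probability of the group. -/
theorem commProb_le_subgroup {G : Type*} [Group G] [Finite G] (H : Subgroup G) :
    commProb G ≤ commProb H := by
  have h1 : Nat.card {x : G × G // Commute x.1 x.2} ≤
      H.index * (H.index * Nat.card {x : H × H // Commute x.1 x.2}) := by
    have e1 := card_commute_le_index_mul H Set.univ
    have e2 := card_commute_le_index_mul H (H : Set G)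
    refine le_trans (le_of_eq (Nat.card_congr (Equiv.subtypeEquivRight fun x => by simp))) (e1.trans ?_)
    refine Nat.mul_le_mul_left _ (le_trans ?_ (e2.trans (Nat.mul_le_mul_left _ (le_of_eq ?_))))
    · exact le_of_eq (Nat.card_congr
        { toFun := fun x => ⟨(x.1.2, x.1.1), x.2.2.1, x.2.2.2.symm⟩
          invFun := fun x => ⟨(x.1.2, x.1.1), trivial, x.2.1, x.2.2.symm⟩
          left_inv := fun x => rfl
          right_inv := fun x => rfl })
    · exact Nat.card_congr
        { toFun := fun x => ⟨(⟨x.1.1, x.2.1⟩, ⟨x.1.2, x.2.2.1⟩), Subtype.ext x.2.2.2⟩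
          invFun := fun x => ⟨((x.1.1 : G), (x.1.2 : G)), x.1.1.2, x.1.2.2,
            congrArg Subtype.val x.2⟩
          left_inv := fun x => rfl
          right_inv := fun x => rfl }
  have hpos : (0 : ℚ) < Nat.card H := Nat.cast_pos.2 Nat.card_pos
  have hipos : (0 : ℚ) < H.index := Nat.cast_pos.2 (Nat.pos_of_ne_zero Subgroup.index_ne_zero_of_finite)
  rw [commProb_def, commProb_def, ← H.card_mul_index, Nat.cast_mul,
    div_le_div_iff₀ (by positivity) (by positivity)]
  have h2 : (Nat.card {x : G × G // Commute x.1 x.2} : ℚ) ≤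
      (H.index : ℚ) * (H.index * Nat.card {x : H × H // Commute x.1 x.2}) := by exact_mod_cast h1
  nlinarith [mul_le_mul_of_nonneg_right h2 (sq_nonneg (Nat.card H : ℚ))]

theorem commProb_le_of_injective {G H : Type*} [Group G] [Finite G] [Group H] (f : H →* G)
    (hf : Function.Injective f) : commProb G ≤ commProb H := by
  refine (commProb_le_subgroup f.range).trans (le_of_eq ?_)
  let e : H ≃* f.range := MonoidHom.ofInjective hf
  rw [commProb_def, commProb_def, Nat.card_congr e.toEquiv]
  congr 2
  exact Nat.card_congr (Equiv.subtypeEquiv (e.toEquiv.symm.prodCongr e.toEquiv.symm) fun x => by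
    constructor
    · exact fun h => h.map e.symm
    · intro h
      simpa using h.map e)

/-- A central subgroup bounds the commuting probability from below. -/
theorem card_div_le_commProb {G : Type*} [Group G] [Finite G] (A : Subgroup G)
    (hA : A ≤ Subgroup.center G) : (Nat.card A : ℚ) / Nat.card G ≤ commProb G := by
  rw [commProb_def']
  refine div_le_div_of_nonneg_right ?_ (Nat.cast_nonneg _)
  refine Nat.cast_le.2 (Nat.card_le_card_of_injective (fun a : A => ConjClasses.mk (a : G)) ?_)
  intro a b h
  obtain ⟨c, hc⟩ := isConj_iff.1 (ConjClasses.mk_eq_mk_iff_isConj.1 h)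
  refine Subtype.ext ?_
  rw [← hc, Subgroup.mem_center_iff.1 (hA a.2) c, mul_inv_cancel_right]

/-- Passing to a subgroup with small index. -/
theorem commProb_le_mul_sq {G H : Type*} [Group G] [Finite G] [Group H] [Finite H] (S : Subgroup G)
    (f : S →* H) (hf : Function.Injective f) :
    commProb H ≤ commProb G * (S.index : ℚ) ^ 2 :=
  (commProb_le_of_injective f hf).trans S.commProb_subgroup_le

end H27.KGV
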