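import Cfsg.Agent.H27.KGV.FieldCase
import Cfsg.Agent.H27.KGV.CommProb

/-!
The average class size of a solvable linear group whose maximal abelian normal subgroup spans a
field.
-/

set_option autoImplicit false
set_option linter.style.haveILetI false
set_option linter.unusedSectionVars false

open scoped commutatorElement

namespace H27.KGV

universe u v

variable {K : Type u} [Group K] [Finite K] {p : ℕ} [Fact p.Prime]
variable {V : Type v} [AddCommGroup V] [Module (ZMod p) V] [Finite V]

set_option maxHeartbeats 1000000 in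
/-- The average class size of the centraliser in the field case. -/
theorem avg_of_field [Nontrivial V] (ρ : Representation (ZMod p) K V)
    (hinj : Function.Injective ρ) (hsolv : Group.IsSolvable K) (A : Subgroup K) [A.Normal]
    (hA : ∀ a ∈ A, ∀ b ∈ A, a * b = b * a)
    (hmax : ∀ B : Subgroup K, B.Normal → (∀ a ∈ B, ∀ b ∈ B, a * b = b * a) → A ≤ B → B ≤ A)
    (hfield : ∀ x ∈ ringOf ρ A, x ≠ 0 → Function.Injective x) (P₀ : Subgroup K) (hPA : P₀ ≤ A) :
    ∃ n, 1 ≤ n ∧ Nat.card V = Nat.card (ringOf ρ P₀) ^ n ∧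
      (1 : ℚ) ≤ (36 : ℚ) ^ (n - 1) * commProb (Subgroup.centralizer (P₀ : Set K)) := by
  obtain ⟨v, hv⟩ := exists_ne (0 : V)
  classical
  haveI := finite_end (p := p) (V := V)
  set R := ringOf ρ A with hR
  let E := ↥R
  haveI : Finite E := Finite.of_injective _ Subtype.val_injective
  letI : CommRing E :=
    { (inferInstance : Ring E) with
      mul_comm := fun x y => Subtype.ext (ringOf_comm ρ A hA x.2 y.2) }
  haveI : IsDomain E := by
    haveI : Nontrivial E := ⟨0, 1, fun h => zero_ne_one' (Module.End (ZMod p) V) (congrArg Subtype.val h)⟩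
    haveI : NoZeroDivisors E := ⟨fun {x y} h => by
      by_contra hc
      push Not at hc
      refine hc.2 (Subtype.ext (LinearMap.ext fun w => hfield x.1 x.2 (fun h' => hc.1 (Subtype.ext h')) ?_))
      show (x.1 * y.1) w = x.1 0
      rw [map_zero, show x.1 * y.1 = 0 from congrArg Subtype.val h, LinearMap.zero_apply]⟩
    exact NoZeroDivisors.to_isDomain E
  letI : Field E := (Finite.isDomain_to_isField E).toField
  haveI : Module.Finite E V := Module.Finite.of_finite
  haveI : Module.Finite (ZMod p) E := Module.Finite.of_finite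
  haveI : IsScalarTower (ZMod p) E V := ⟨fun c x w => by
    show (c • x.1) w = c • x.1 w
    rfl⟩
  have hA2 : ∀ a b : A, (a : K) * b = b * a := fun a b => hA _ a.2 _ b.2
  -- the action of `K` on the field
  have hcj : ∀ (k : K) (x : Module.End (ZMod p) V), ρ k * (ρ k⁻¹ * x * ρ k) * ρ k⁻¹ = x := fun k x => by
    simp only [mul_assoc]; rw [rho_mul_inv, mul_one, ← mul_assoc, rho_mul_inv, one_mul]
  let tau : K → E →ₐ[ZMod p] E := fun k =>
    { toFun := fun x => ⟨ρ k * x.1 * ρ k⁻¹, conj_mem_ringOf ρ A k x.2⟩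
      map_one' := Subtype.ext (by show ρ k * 1 * ρ k⁻¹ = 1; rw [mul_one, rho_mul_inv])
      map_mul' := fun x y => Subtype.ext (by
        show ρ k * (x.1 * y.1) * ρ k⁻¹ = _
        exact (conj_mul' ρ k x.1 y.1).symm)
      map_zero' := Subtype.ext (by show ρ k * 0 * ρ k⁻¹ = 0; simp)
      map_add' := fun x y => Subtype.ext (by
        show ρ k * (x.1 + y.1) * ρ k⁻¹ = ρ k * x.1 * ρ k⁻¹ + ρ k * y.1 * ρ k⁻¹
        rw [mul_add, add_mul])
      commutes' := fun r => Subtype.ext (by
        show ρ k * algebraMap (ZMod p) (Module.End (ZMod p) V) r * ρ k⁻¹ = algebraMap _ _ r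
        rw [← Algebra.commutes, mul_assoc, rho_mul_inv, mul_one]) }
  have htau : ∀ k l x, tau (k * l) x = tau k (tau l x) := fun k l x => Subtype.ext (by
    show ρ (k * l) * x.1 * ρ (k * l)⁻¹ = ρ k * (ρ l * x.1 * ρ l⁻¹) * ρ k⁻¹
    rw [mul_inv_rev, map_mul, map_mul]; simp only [mul_assoc])
  -- the centraliser of `A`
  let C : Subgroup K :=
    { carrier := {k | ∀ x : E, tau k x = x}
      one_mem' := fun x => Subtype.ext (by show ρ 1 * x.1 * ρ 1⁻¹ = x.1; simp)
      mul_mem' := fun {a b} ha hb x => by rw [htau, hb, ha]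
      inv_mem' := fun {a} ha x => by
        conv_lhs => rw [← ha x, ← htau, inv_mul_cancel]
        exact Subtype.ext (by show ρ 1 * x.1 * ρ 1⁻¹ = x.1; simp) }
  have hCcomm : ∀ c ∈ C, ∀ a ∈ A, c * a = a * c := by
    intro c hc a ha
    have h1 : ρ c * ρ a * ρ c⁻¹ = ρ a := congrArg Subtype.val (hc ⟨ρ a, rho_mem_ringOf ρ A ha⟩)
    rw [← map_mul, ← map_mul] at h1
    exact mul_inv_eq_iff_eq_mul.1 (hinj h1)
  have hCR : ∀ c ∈ C, ∀ x : E, ρ c * x.1 = x.1 * ρ c := by
    intro c hc x
    have h1 : ρ c * x.1 * ρ c⁻¹ = x.1 := congrArg Subtype.val (hc x)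
    calc ρ c * x.1 = ρ c * x.1 * (ρ c⁻¹ * ρ c) := by rw [rho_inv_mul, mul_one]
      _ = x.1 * ρ c := by rw [← mul_assoc, h1]
  have hmemC : ∀ c, (∀ a ∈ A, c * a = a * c) → c ∈ C := by
    intro c hc x
    refine Subtype.ext ?_
    show ρ c * x.1 * ρ c⁻¹ = x.1
    rw [← commute_ringOf ρ A (fun a ha => by rw [← map_mul, ← map_mul, hc a ha]) x.2, mul_assoc,
      rho_mul_inv, mul_one]
  haveI hCn : C.Normal := ⟨fun c hc k => hmemC _ fun a ha => by
    have ha' : k⁻¹ * a * k ∈ A := by
      have := Subgroup.Normal.conj_mem inferInstance a ha k⁻¹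
      rwa [inv_inv] at this
    calc k * c * k⁻¹ * a = k * (c * (k⁻¹ * a * k)) * k⁻¹ := by group
      _ = k * ((k⁻¹ * a * k) * c) * k⁻¹ := by rw [hCcomm c hc _ ha']
      _ = a * (k * c * k⁻¹) := by group⟩
  have hAC : A ≤ C := fun a ha => hmemC a fun b hb => hA a ha b hb
  -- a maximal subgroup with abelian image modulo `A`
  obtain ⟨B, hB⟩ := (Set.toFinite {B : Subgroup K | B.Normal ∧ A ≤ B ∧ B ≤ C ∧
      ∀ x ∈ B, ∀ y ∈ B, ⁅x, y⁆ ∈ A}).exists_maximal ⟨A, inferInstance, le_rfl, hAC,
    fun x hx y hy => A.mul_mem (A.mul_mem (A.mul_mem hx hy) (A.inv_mem hx)) (A.inv_mem hy)⟩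
  obtain ⟨⟨hBn, hAB, hBC, hBA⟩, hBmax⟩ := hB
  haveI := hBn
  have hcent : ∀ a ∈ A, ∀ c ∈ C, Commute c a := fun a ha c hc => hCcomm c hc a ha
  have hZ : ∀ x ∈ B, (∀ y ∈ B, x * y = y * x) → x ∈ A := by
    intro x hx hxc
    have := hmax (B ⊓ Subgroup.centralizer (B : Set K)) inferInstance
      (fun a ha b hb => ((Subgroup.mem_centralizer_iff.1 ha.2) b hb.1).symm)
      (fun a ha => ⟨hAB ha, fun y hy => (hcent a ha y (hBC hy)).eq⟩)
    exact this ⟨hx, fun y hy => (hxc y hy).symm⟩
  let A' : Subgroup B := A.subgroupOf B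
  haveI : A'.Normal := Subgroup.normal_subgroupOf
  letI : CommGroup (B ⧸ A') :=
    { (inferInstance : Group (B ⧸ A')) with
      mul_comm := by
        intro x y
        induction x using QuotientGroup.induction_on with | H a => ?_
        induction y using QuotientGroup.induction_on with | H b => ?_
        rw [← QuotientGroup.mk_mul, ← QuotientGroup.mk_mul, QuotientGroup.eq, Subgroup.mem_subgroupOf]
        have h1 := hBA _ (B.inv_mem b.2) _ (B.inv_mem a.2)
        simp only [commutatorElement_def, inv_inv] at h1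
        simpa [mul_inv_rev, mul_assoc] using h1 }
  let χ₀ : A →* E :=
    { toFun := fun a => ⟨ρ a, rho_mem_ringOf ρ A a.2⟩
      map_one' := Subtype.ext (map_one ρ)
      map_mul' := fun a b => Subtype.ext (map_mul ρ (a : K) b) }
  let χ : A →* Eˣ := χ₀.toHomUnits
  have hχv : ∀ a : A, ((χ a : E) : Module.End (ZMod p) V) = ρ a := fun a => rfl
  have hχinj : Function.Injective χ := fun a b h => Subtype.ext (hinj (by
    rw [← hχv, ← hχv, h]))
  let P := B ⧸ A'
  let β : B → B → A := fun x y => ⟨⁅(x : K), (y : K)⁆, hBA _ x.2 _ y.2⟩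
  have hβl : ∀ x y z : B, β (x * y) z = β x z * β y z := fun x y z => Subtype.ext
    (comm_mul_left (hcent _ (hBA _ y.2 _ z.2) _ (hBC x.2)) (hA _ (hBA _ y.2 _ z.2) _ (hBA _ x.2 _ z.2)))
  have hβr : ∀ x y z : B, β x (y * z) = β x y * β x z := fun x y z => Subtype.ext
    (comm_mul_right (hcent _ (hBA _ x.2 _ z.2) _ (hBC y.2)))
  have hβ1 : ∀ (a : B), (a : K) ∈ A → ∀ x : B, β a x = 1 ∧ β x a = 1 := fun a ha x =>
    ⟨Subtype.ext (commutatorElement_eq_one_iff_commute.2 (hcent _ ha _ (hBC x.2)).symm),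
      Subtype.ext (commutatorElement_eq_one_iff_commute.2 (hcent _ ha _ (hBC x.2)))⟩
  let r : P → B := Quotient.out
  have hr : ∀ q : P, (QuotientGroup.mk (r q) : P) = q := fun q => Quotient.out_eq' q
  let ω : P → P → Eˣ := fun q q' => χ (β (r q) (r q'))
  have hω : ∀ x y : B, ω (x : P) (y : P) = χ (β x y) := by
    intro x y
    have h1 : ∀ z : B, ∃ a : B, (a : K) ∈ A ∧ r (z : P) = z * a := fun z =>
      ⟨z⁻¹ * r (z : P), Subgroup.mem_subgroupOf.1 (QuotientGroup.eq.1 (hr (z : P)).symm),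
        (mul_inv_cancel_left _ _).symm⟩
    obtain ⟨a, ha, ha'⟩ := h1 x
    obtain ⟨b, hb, hb'⟩ := h1 y
    show χ (β (r (x : P)) (r (y : P))) = _
    rw [ha', hb', hβl, hβr, hβr, (hβ1 a ha _).1, (hβ1 a ha _).1, (hβ1 b hb _).2]
    simp
  have hsqset : ∀ q : ℕ, ∀ x ∈ B, x ^ (q * q) ∈ A → ∀ y ∈ B, x ^ q * y ^ q = y ^ q * x ^ q := by
    intro q x hx hxq y hy
    have hpl : ∀ (n : ℕ) (a b : B), β (a ^ n) b = β a b ^ n := by
      intro n a b
      induction n with
      | zero => rw [pow_zero, pow_zero, (hβ1 1 A.one_mem b).1]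
      | succ n ih => rw [pow_succ, hβl, ih, pow_succ]
    have hpr : ∀ (n : ℕ) (a b : B), β a (b ^ n) = β a b ^ n := by
      intro n a b
      induction n with
      | zero => rw [pow_zero, pow_zero, (hβ1 1 A.one_mem a).2]
      | succ n ih => rw [pow_succ, hβr, ih, pow_succ]
    have h1 : β ((⟨x, hx⟩ : B) ^ q) ((⟨y, hy⟩ : B) ^ q) = 1 := by
      rw [hpl, hpr, ← pow_mul, ← hpl]
      exact (hβ1 _ (by rw [SubmonoidClass.coe_pow]; exact hxq) _).1
    exact (commutatorElement_eq_one_iff_commute.1 (congrArg Subtype.val h1)).eq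
  have hpair : Pairing.IsPairing ω := by
    refine ⟨fun a b c => ?_, fun a b c => ?_, fun a => ?_, fun a ha => ?_, fun a q hq ha => ?_⟩
    · obtain ⟨x, rfl⟩ := QuotientGroup.mk_surjective a
      obtain ⟨y, rfl⟩ := QuotientGroup.mk_surjective b
      obtain ⟨z, rfl⟩ := QuotientGroup.mk_surjective c
      rw [← QuotientGroup.mk_mul, hω, hω, hω, hβl, map_mul]
    · obtain ⟨x, rfl⟩ := QuotientGroup.mk_surjective a
      obtain ⟨y, rfl⟩ := QuotientGroup.mk_surjective b
      obtain ⟨z, rfl⟩ := QuotientGroup.mk_surjective c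
      rw [← QuotientGroup.mk_mul, hω, hω, hω, hβr, map_mul]
    · show χ (β (r a) (r a)) = 1
      rw [show β (r a) (r a) = 1 from Subtype.ext (commutatorElement_self _), map_one]
    · obtain ⟨x, rfl⟩ := QuotientGroup.mk_surjective a
      rw [QuotientGroup.eq_one_iff, Subgroup.mem_subgroupOf]
      refine hZ x x.2 fun y hy => ?_
      have h1 := ha ((⟨y, hy⟩ : B) : P)
      rw [hω, ← map_one χ] at h1
      exact (commutatorElement_eq_one_iff_commute.1 (congrArg Subtype.val (hχinj h1))).eq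
    · obtain ⟨x, rfl⟩ := QuotientGroup.mk_surjective a
      rw [← QuotientGroup.mk_pow, QuotientGroup.eq_one_iff, Subgroup.mem_subgroupOf] at ha ⊢
      rw [SubmonoidClass.coe_pow] at ha ⊢
      let s : Set K := (A : Set K) ∪ {y | ∃ z ∈ B, z ^ (q * q) ∈ A ∧ y = z ^ q}
      have hsc : ∀ y ∈ s, ∀ y' ∈ s, y * y' = y' * y := by
        rintro y (hy | ⟨z, hz, hz', rfl⟩) y' (hy' | ⟨w, hw, hw', rfl⟩)
        · exact hA y hy y' hy'
        · exact (hcent y hy _ (hBC (B.pow_mem hw q))).eq.symm
        · exact (hcent y' hy' _ (hBC (B.pow_mem hz q))).eq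
        · exact hsqset q z hz hz' w hw
      have hsn : ∀ k : K, ∀ y ∈ s, k * y * k⁻¹ ∈ s := by
        rintro k y (hy | ⟨z, hz, hz', rfl⟩)
        · exact Or.inl (Subgroup.Normal.conj_mem inferInstance y hy k)
        · refine Or.inr ⟨k * z * k⁻¹, Subgroup.Normal.conj_mem inferInstance z hz k, ?_, ?_⟩
          · rw [conj_pow]; exact Subgroup.Normal.conj_mem inferInstance _ hz' k
          · rw [conj_pow]
      have hn : (Subgroup.closure s).Normal := ⟨fun y hy k => by
        induction hy using Subgroup.closure_induction with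
        | mem y hy => exact Subgroup.subset_closure (hsn k y hy)
        | one => simp
        | mul y z _ _ hy hz =>
          rw [show k * (y * z) * k⁻¹ = (k * y * k⁻¹) * (k * z * k⁻¹) by group]
          exact mul_mem hy hz
        | inv y _ hy =>
          rw [show k * y⁻¹ * k⁻¹ = (k * y * k⁻¹)⁻¹ by group]
          exact inv_mem hy⟩
      have hcom := Subgroup.isMulCommutative_closure hsc
      exact hmax _ hn (fun a ha b hb => congrArg Subtype.val (hcom.1.comm ⟨a, ha⟩ ⟨b, hb⟩))
        (fun a ha => Subgroup.subset_closure (Or.inl ha))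
        (Subgroup.subset_closure (Or.inr ⟨x, x.2, ha, rfl⟩))
  obtain ⟨e, he, hiso⟩ := Pairing.main hpair
  -- the dimension bound
  have he_le : e ≤ Module.finrank E V := by
    let T : P → V →ₗ[E] V := fun q =>
      { toFun := ρ (r q : K)
        map_add' := map_add _
        map_smul' := fun x w => by
          show (ρ (r q : K) * x.1) w = (x.1 * ρ (r q : K)) w
          rw [hCR _ (hBC (r q).2)] }
    haveI := Fintype.ofFinite P
    have hli : LinearIndependent E T := by
      rw [Fintype.linearIndependent_iff]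
      intro g hg q₀
      have hrel : ∀ c : P, ∀ w, ∑ q, (g q * (ω c q : E)) • T q w = 0 := by
        intro c w
        obtain ⟨w', rfl⟩ : ∃ w', ρ (r c : K) w' = w := ⟨ρ (r c : K)⁻¹ w, by
          rw [← Module.End.mul_apply, rho_mul_inv, Module.End.one_apply]⟩
        have h1 : T c (∑ q, g q • T q w') = 0 := by
          have := LinearMap.congr_fun hg w'
          simp only [LinearMap.sum_apply, LinearMap.smul_apply] at this ⊢
          rw [this, LinearMap.zero_apply, map_zero]
        rw [map_sum] at h1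
        rw [← h1]
        refine Finset.sum_congr rfl fun q _ => ?_
        rw [map_smul, mul_smul]
        congr 1
        show (ω c q : E).1 (ρ (r q : K) (ρ (r c : K) w')) = ρ (r c : K) (ρ (r q : K) w')
        rw [show (ω c q : E).1 = ρ (β (r c) (r q) : K) from hχv _, ← Module.End.mul_apply,
          ← Module.End.mul_apply, ← Module.End.mul_apply, ← map_mul, ← map_mul, ← map_mul]
        congr 2
        show ⁅(r c : K), (r q : K)⁆ * (r q : K) * (r c : K) = (r c : K) * (r q : K)
        rw [commutatorElement_def]; group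
      have hker : ∀ φ : Module.Dual E V, g q₀ * φ (T q₀ v) = 0 := by
        intro φ
        let f : P → (P →* E) := fun q => (Units.coeHom E).comp (hpair.homL q)
        have hf : Function.Injective f := fun q q' h => by
          refine inv_mul_eq_one.1 (hpair.nondeg (q'⁻¹ * q) fun b => ?_) |>.symm
          have hb : ω b q = ω b q' := Units.ext (DFunLike.congr_fun h b)
          rw [hpair.anti, show ω b (q'⁻¹ * q) = hpair.homR b (q'⁻¹ * q) from rfl, map_mul, map_inv]
          show ((ω b q')⁻¹ * ω b q)⁻¹ = 1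
          rw [hb, inv_mul_cancel, inv_one]
        have h2 := Fintype.linearIndependent_iff.1 ((linearIndependent_monoidHom P E).comp f hf)
          (fun q => g q * φ (T q v)) (funext fun c => ?_) q₀
        · exact h2
        have h3 := congrArg φ (hrel c v)
        rw [map_sum, map_zero] at h3
        simp only [map_smul, smul_eq_mul] at h3
        simp only [Finset.sum_apply, Pi.smul_apply, smul_eq_mul, Function.comp_apply, Pi.zero_apply]
        rw [← h3]
        refine Finset.sum_congr rfl fun q _ => ?_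
        show g q * φ (T q v) * (ω c q : E) = _
        ring
      by_contra hg0
      have h4 : T q₀ v = 0 := (Module.forall_dual_apply_eq_zero_iff E (T q₀ v)).1 fun φ =>
        (mul_eq_zero.1 (hker φ)).resolve_left hg0
      refine hv ?_
      have h5 : ρ (r q₀ : K)⁻¹ (ρ (r q₀ : K) v) = ρ (r q₀ : K)⁻¹ 0 := congrArg _ h4
      rwa [map_zero, ← Module.End.mul_apply, rho_inv_mul, Module.End.one_apply] at h5
    have h1 := hli.fintype_card_le_finrank
    rw [Module.finrank_linearMap, ← Nat.card_eq_fintype_card, he, ← sq] at h1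
    exact (Nat.pow_le_pow_iff_left two_ne_zero).1 h1
  -- elements of `C` acting trivially on `B/A` lie in `B`
  have hCB : ∀ d ∈ C, (∀ x ∈ B, d * x = x * d) → d ∈ A := by
    let M : Subgroup K := C ⊓ Subgroup.centralizer (B : Set K)
    suffices hM : M ≤ A from fun d hd hdx => hM ⟨hd, fun x hx => (hdx x hx).symm⟩
    haveI : M.Normal := inferInstance
    by_contra hMA
    have hex : ∃ j, derivedSeries M j ≤ A.subgroupOf M := by
      obtain ⟨j, hj⟩ := (Group.isSolvable_def M).1 inferInstance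
      exact ⟨j, hj ▸ bot_le⟩
    cases hj : Nat.find hex with
    | zero =>
      have := Nat.find_spec hex
      rw [hj, derivedSeries_zero, top_le_iff, Subgroup.subgroupOf_eq_top] at this
      exact hMA this
    | succ i =>
      have hno := Nat.find_min hex (show i < Nat.find hex by omega)
      have hsucc := Nat.find_spec hex
      rw [hj] at hsucc
      let D : Subgroup K := (derivedSeries M i).map M.subtype
      haveI : D.Normal := inferInstance
      have hDM : D ≤ M := Subgroup.map_subtype_le _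
      have hDA : ∀ x ∈ D, ∀ y ∈ D, ⁅x, y⁆ ∈ A := by
        rintro _ ⟨x, hx, rfl⟩ _ ⟨y, hy, rfl⟩
        have h1 := hsucc (Subgroup.commutator_mem_commutator hx hy)
        exact h1
      have hmix : ∀ x ∈ B, ∀ y ∈ D, Commute x y := fun x hx y hy =>
        (Subgroup.mem_centralizer_iff.1 (hDM hy).2 x hx)
      have hnew : B ⊔ D ≤ B := hBmax ⟨inferInstance, hAB.trans le_sup_left,
        sup_le hBC (hDM.trans inf_le_left), fun x hx y hy => by
        obtain ⟨b, hb, d, hd, rfl⟩ := Subgroup.mem_sup_of_normal_right.1 hx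
        obtain ⟨b', hb', d', hd', rfl⟩ := Subgroup.mem_sup_of_normal_right.1 hy
        rw [← QuotientGroup.eq_one_iff, ← QuotientGroup.mk'_apply, map_commutatorElement,
          commutatorElement_eq_one_iff_commute, map_mul, map_mul]
        have hq : ∀ {x y : K}, ⁅x, y⁆ ∈ A → Commute (QuotientGroup.mk' A x) (QuotientGroup.mk' A y) := by
          intro x y h
          rw [← commutatorElement_eq_one_iff_commute, ← map_commutatorElement]
          exact (QuotientGroup.eq_one_iff _).2 h
        exact ((hq (hBA _ hb _ hb')).mul_right ((hmix b hb d' hd').map _)).mul_left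
          (((hmix b' hb' d hd).symm.map _).mul_right (hq (hDA _ hd _ hd')))⟩ le_sup_left
      refine hno fun x hx => ?_
      have hxD : (x : K) ∈ D := ⟨x, hx, rfl⟩
      exact hZ x (hnew (Subgroup.mem_sup_right hxD)) fun y hy => (hmix y hy x hxD).eq.symm
  have hD : ∀ d ∈ C, (∀ x ∈ B, ⁅d, x⁆ ∈ A) → d ∈ B := by
    intro d hd hdx
    let γ : B →* A := MonoidHom.mk' (fun x => ⟨⁅d, (x : K)⁆, hdx x x.2⟩) fun x y => Subtype.ext
      (comm_mul_right (hcent _ (hdx y y.2) _ (hBC x.2)))
    let f : P →* Eˣ := QuotientGroup.lift A' (χ.comp γ) fun a ha => by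
      rw [MonoidHom.mem_ker, MonoidHom.comp_apply, show γ a = 1 from Subtype.ext
        (commutatorElement_eq_one_iff_commute.2 (hcent _ (Subgroup.mem_subgroupOf.1 ha) _ hd)), map_one]
    haveI : Finite (P →* Eˣ) := Finite.of_injective (fun g => (g : P → Eˣ)) DFunLike.coe_injective
    have hbij : Function.Bijective (fun q : P => hpair.homR q) := by
      rw [Nat.bijective_iff_injective_and_card]
      have hi : Function.Injective (fun q : P => hpair.homR q) := fun q q' h => by
        refine inv_mul_eq_one.1 (hpair.nondeg (q'⁻¹ * q) fun b => ?_) |>.symm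
        show hpair.homL b (q'⁻¹ * q) = 1
        rw [map_mul, map_inv]
        show (ω q' b)⁻¹ * ω q b = 1
        rw [show ω q b = ω q' b from DFunLike.congr_fun h b, inv_mul_cancel]
      exact ⟨hi, le_antisymm (Nat.card_le_card_of_injective _ hi) (card_hom_units_le E)⟩
    obtain ⟨q, hq⟩ := hbij.2 f
    have hsame : ∀ x : B, ⁅(r q : K), (x : K)⁆ = ⁅d, (x : K)⁆ := by
      intro x
      have h1 : ω q (x : P) = χ (γ x) := DFunLike.congr_fun hq (x : P)
      rw [← hr q, hω] at h1
      exact congrArg Subtype.val (hχinj h1)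
    have hd' : (r q : K)⁻¹ * d ∈ A := hCB _ (mul_mem (inv_mem (hBC (r q).2)) hd) fun x hx => by
      have h1 := hsame ⟨x, hx⟩
      simp only [commutatorElement_def, mul_left_inj] at h1
      calc (r q : K)⁻¹ * d * x = (r q : K)⁻¹ * (d * x * d⁻¹) * d := by group
        _ = (r q : K)⁻¹ * ((r q : K) * x * (r q : K)⁻¹) * d := by rw [h1]
        _ = x * ((r q : K)⁻¹ * d) := by group
    have := B.mul_mem (r q).2 (hAB hd')
    rwa [mul_inv_cancel_left] at this
  -- the size of `C`
  let cj : K → P →* P := fun c => QuotientGroup.map A' A' (MulAut.conjNormal c : MulAut B).toMonoidHom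
    fun a ha => by
      rw [Subgroup.mem_comap, Subgroup.mem_subgroupOf]
      show ((MulAut.conjNormal c a : B) : K) ∈ A
      rw [MulAut.conjNormal_apply]
      exact Subgroup.Normal.conj_mem inferInstance _ (Subgroup.mem_subgroupOf.1 ha) c
  let Φ : C → Pairing.Stab ω ⊥ := fun c => ⟨cj c, fun a b => by
      obtain ⟨x, rfl⟩ := QuotientGroup.mk_surjective a
      obtain ⟨y, rfl⟩ := QuotientGroup.mk_surjective b
      show ω ((MulAut.conjNormal (c : K) x : B) : P) ((MulAut.conjNormal (c : K) y : B) : P) = _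
      rw [hω, hω]
      congr 1
      refine Subtype.ext ?_
      show ⁅((MulAut.conjNormal (c : K) x : B) : K), ((MulAut.conjNormal (c : K) y : B) : K)⁆ = ⁅(x : K), (y : K)⁆
      rw [MulAut.conjNormal_apply, MulAut.conjNormal_apply, ← MulAut.conj_apply, ← MulAut.conj_apply,
        ← map_commutatorElement, MulAut.conj_apply, (hcent _ (hBA _ x.2 _ y.2) _ c.2).eq,
        mul_inv_cancel_right],
    fun a ha => by
      rw [Subgroup.mem_bot] at ha ⊢
      rw [ha, map_one]⟩
  have hCcard : Nat.card C ≤ Nat.card A * e ^ 2 * 9 ^ (e - 1) := by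
    have hBcard : Nat.card B = Nat.card A * e ^ 2 := by
      rw [Subgroup.card_eq_card_quotient_mul_card_subgroup A', he,
        Nat.card_congr (Subgroup.subgroupOfEquivOfLe hAB).toEquiv, mul_comm]
    have hst : Nat.card (Pairing.Stab ω ⊥) ≤ 9 ^ (e - 1) := by
      have := hiso ⊥ (fun a ha b _ => by
        rw [Subgroup.mem_bot.1 ha]
        show hpair.homL b 1 = 1
        exact map_one _)
      rwa [Nat.card_unique (α := (⊥ : Subgroup P)), one_mul] at this
    rw [← hBcard]
    refine le_trans ?_ (Nat.mul_le_mul_left _ hst)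
    rw [← Nat.card_prod]
    let sec : Pairing.Stab ω ⊥ → C := fun f => if h : ∃ c, Φ c = f then h.choose else 1
    have hsec : ∀ c : C, Φ (sec (Φ c)) = Φ c := fun c => by
      simp only [sec, dif_pos (show ∃ c', Φ c' = Φ c from ⟨c, rfl⟩)]
      exact (show ∃ c', Φ c' = Φ c from ⟨c, rfl⟩).choose_spec
    have hdiff : ∀ c : C, ((sec (Φ c) : K))⁻¹ * c ∈ B := by
      intro c
      set c' := sec (Φ c)
      refine hD _ (C.mul_mem (C.inv_mem c'.2) c.2) fun x hx => ?_
      have h1 := DFunLike.congr_fun (congrArg Subtype.val (hsec c)) ((⟨x, hx⟩ : B) : P)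
      change ((MulAut.conjNormal (c' : K) ⟨x, hx⟩ : B) : P) = ((MulAut.conjNormal (c : K) ⟨x, hx⟩ : B) : P) at h1
      rw [QuotientGroup.eq, Subgroup.mem_subgroupOf, Subgroup.coe_mul, Subgroup.coe_inv,
        MulAut.conjNormal_apply, MulAut.conjNormal_apply] at h1
      have h3 : ⁅((c' : K))⁻¹ * c, x⁆ = (c' : K)⁻¹ * (c * x * (c : K)⁻¹) * c' * x⁻¹ := by
        rw [commutatorElement_def]; group
      show ⁅((c' : K))⁻¹ * c, x⁆ ∈ A
      rw [h3]
      have h5 : (c' : K)⁻¹ * (c * x * (c : K)⁻¹) * c' * x⁻¹ =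
          x * ((c' : K)⁻¹ * (((c' : K) * x * (c' : K)⁻¹)⁻¹ * (c * x * (c : K)⁻¹)) * c') * x⁻¹ := by group
      rw [h5]
      refine Subgroup.Normal.conj_mem (inferInstance : A.Normal) _ ?_ x
      have := Subgroup.Normal.conj_mem (inferInstance : A.Normal) _ h1 (c' : K)⁻¹
      rwa [inv_inv] at this
    refine Nat.card_le_card_of_injective (fun c : C => ((⟨_, hdiff c⟩ : B), Φ c)) ?_
    intro c c' h
    simp only [Prod.mk.injEq] at h
    obtain ⟨h1, h2⟩ := h
    have h3 : ((sec (Φ c) : K))⁻¹ * c = ((sec (Φ c') : K))⁻¹ * c' := congrArg Subtype.val h1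
    rw [h2] at h3
    exact Subtype.ext (mul_left_cancel h3)
  -- the action on the field fixes the field of `P₀`
  set E₀ := ringOf ρ P₀ with hE₀
  have hle : E₀ ≤ R := Algebra.adjoin_mono (Set.image_mono hPA)
  haveI : Finite E₀ := Finite.of_injective _ Subtype.val_injective
  letI : CommRing E₀ :=
    { (inferInstance : Ring E₀) with
      mul_comm := fun x y => Subtype.ext (ringOf_comm ρ A hA (hle x.2) (hle y.2)) }
  haveI : IsDomain E₀ :=
    (Subalgebra.inclusion_injective hle).isDomain (Subalgebra.inclusion hle).toRingHom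
  letI : Field E₀ := (Finite.isDomain_to_isField E₀).toField
  letI : Algebra E₀ E := (Subalgebra.inclusion hle).toRingHom.toAlgebra
  haveI : Module.Finite E₀ E := Module.Finite.of_finite
  set Cp := Subgroup.centralizer (P₀ : Set K)
  have hCCp : C ≤ Cp := fun c hc => Subgroup.mem_centralizer_iff.2 fun a ha => (hCcomm c hc a (hPA ha)).symm
  have hidx : C.relIndex Cp ≤ Module.finrank E₀ E := by
    let tau0 : Cp → (E →ₐ[E₀] E) := fun k =>
      { (tau k.1).toRingHom with
        commutes' := fun r => Subtype.ext (by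
          show ρ k.1 * r.1 * ρ k.1⁻¹ = r.1
          rw [← commute_ringOf ρ P₀ (fun a ha => by
            rw [← map_mul, ← map_mul, Subgroup.mem_centralizer_iff.1 k.2 a ha]) r.2, mul_assoc,
            rho_mul_inv, mul_one]) }
    refine le_trans ?_ (Nat.card_eq_fintype_card.trans_le (AlgHom.card_le (F := E₀) (K := E)))
    rw [Subgroup.relIndex, Subgroup.index_eq_card]
    refine Nat.card_le_card_of_injective (fun q : Cp ⧸ C.subgroupOf Cp => tau0 q.out) fun q q' h => ?_
    have h' : ∀ x, tau (q.out : K) x = tau (q'.out : K) x := fun x => DFunLike.congr_fun h x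
    rw [← QuotientGroup.out_eq' q, ← QuotientGroup.out_eq' q', QuotientGroup.eq, Subgroup.mem_subgroupOf]
    intro x
    rw [Subgroup.coe_mul, Subgroup.coe_inv, htau, ← h', ← htau, inv_mul_cancel]
    exact Subtype.ext (by show ρ 1 * x.1 * ρ 1⁻¹ = x.1; simp)
  -- assemble
  set u := Module.finrank E₀ E
  set n := Module.finrank E V
  have hu : 0 < u := Module.finrank_pos
  have hn : 0 < n := Module.finrank_pos
  refine ⟨u * n, Nat.mul_pos hu hn, ?_, ?_⟩
  · rw [pow_mul, Module.natCard_eq_pow_finrank (K := E) (V := V)]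
    congr 1
    exact Module.natCard_eq_pow_finrank
  have h1 : (Nat.card A : ℚ) / Nat.card C ≤ commProb C := by
    have := card_div_le_commProb (A.subgroupOf C) fun a ha => Subgroup.mem_center_iff.2 fun c =>
      Subtype.ext (hCcomm c c.2 a (Subgroup.mem_subgroupOf.1 ha))
    rwa [Nat.card_congr (Subgroup.subgroupOfEquivOfLe hAC).toEquiv] at this
  have h2 : commProb C ≤ commProb Cp * (C.relIndex Cp : ℚ) ^ 2 :=
    commProb_le_mul_sq (C.subgroupOf Cp) (Subgroup.subgroupOfEquivOfLe hCCp).toMonoidHom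
      (Subgroup.subgroupOfEquivOfLe hCCp).injective
  have h3 : u ^ 2 * (e ^ 2 * 9 ^ (e - 1)) ≤ 36 ^ (u * n - 1) := by
    have hu3 : u ^ 2 ≤ 36 ^ (u - 1) :=
      calc u ^ 2 ≤ (3 ^ (u - 1)) ^ 2 := Nat.pow_le_pow_left (Pairing.le_three_pow u hu) _
        _ = 9 ^ (u - 1) := by rw [← pow_mul, mul_comm, pow_mul]; norm_num
        _ ≤ _ := Nat.pow_le_pow_left (by norm_num) _
    have he3 : e ^ 2 * 9 ^ (e - 1) ≤ 36 ^ (e - 1) := by
      rcases Nat.eq_zero_or_pos e with h0 | h0
      · simp [h0]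
      rw [show (36 : ℕ) = 4 * 9 by norm_num, mul_pow]
      refine Nat.mul_le_mul_right _ ?_
      calc e ^ 2 ≤ (2 ^ (e - 1)) ^ 2 := Nat.pow_le_pow_left (by
            have := Nat.lt_pow_self (n := e - 1) (a := 2) (by norm_num)
            omega) _
        _ = 4 ^ (e - 1) := by rw [← pow_mul, mul_comm, pow_mul]; norm_num
    refine (Nat.mul_le_mul hu3 he3).trans ?_
    rw [← pow_add]
    refine Nat.pow_le_pow_right (by norm_num) ?_
    have : e ≤ n := he_le
    obtain ⟨u', hu'⟩ : ∃ u', u = u' + 1 := ⟨u - 1, by omega⟩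
    obtain ⟨n', hn'⟩ : ∃ n', n = n' + 1 := ⟨n - 1, by omega⟩
    have hun : u * n = u' * n' + u' + n' + 1 := by rw [hu', hn']; ring
    omega
  have hA0 : (0 : ℚ) < Nat.card A := Nat.cast_pos.2 Nat.card_pos
  have hC0 : (0 : ℚ) < Nat.card C := Nat.cast_pos.2 Nat.card_pos
  have h4 : (Nat.card C : ℚ) ≤ Nat.card A * ((e : ℚ) ^ 2 * 9 ^ (e - 1)) := by
    have : (Nat.card C : ℚ) ≤ ((Nat.card A * e ^ 2 * 9 ^ (e - 1) : ℕ) : ℚ) := Nat.cast_le.2 hCcard
    push_cast at this
    linarith
  have h5 : (u : ℚ) ^ 2 * ((e : ℚ) ^ 2 * 9 ^ (e - 1)) ≤ (36 : ℚ) ^ (u * n - 1) := by exact_mod_cast h3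
  have h6 : (C.relIndex Cp : ℚ) ≤ u := Nat.cast_le.2 hidx
  have hX : (0 : ℚ) ≤ (e : ℚ) ^ 2 * 9 ^ (e - 1) := by positivity
  have hcp : 0 ≤ commProb Cp := (commProb_pos (M := Cp)).le
  have h7 : (1 : ℚ) ≤ ((e : ℚ) ^ 2 * 9 ^ (e - 1)) * commProb C := by
    have := mul_le_mul_of_nonneg_left h1 hX
    refine le_trans ?_ this
    rw [mul_div_assoc', one_le_div hC0, mul_comm]
    exact h4
  calc (1 : ℚ) ≤ ((e : ℚ) ^ 2 * 9 ^ (e - 1)) * commProb C := h7
    _ ≤ ((e : ℚ) ^ 2 * 9 ^ (e - 1)) * (commProb Cp * (u : ℚ) ^ 2) :=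
        mul_le_mul_of_nonneg_left (h2.trans (mul_le_mul_of_nonneg_left
          (pow_le_pow_left₀ (Nat.cast_nonneg _) h6 2) hcp)) hX
    _ = ((u : ℚ) ^ 2 * ((e : ℚ) ^ 2 * 9 ^ (e - 1))) * commProb Cp := by ring
    _ ≤ _ := mul_le_mul_of_nonneg_right h5 hcp

end H27.KGV
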