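import Mathlib

/-!
Automorphisms of a finite abelian group of square-free exponent with a nondegenerate alternating
pairing into a field: an isotropic subgroup times its stabiliser is small.
-/

set_option autoImplicit false
set_option linter.style.haveILetI false

namespace H27.KGV.Pairing

/-- The bound. -/
def bound (e : ℕ) : ℕ := if e = 2 then 6 else 9 ^ (e - 1)

theorem bound_le (e : ℕ) : bound e ≤ 9 ^ (e - 1) := by
  unfold bound
  split_ifs with h
  · subst h; norm_num
  · exact le_rfl

theorem cube_le_nine_pow (q : ℕ) (hq : 3 ≤ q) : q ^ 3 ≤ 9 ^ (q - 1) := by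
  induction q, hq using Nat.le_induction with
  | base => norm_num
  | succ n hn ih =>
    rw [show n + 1 - 1 = n - 1 + 1 by omega, pow_succ 9]
    have : (n + 1) ^ 3 ≤ 9 * n ^ 3 := by nlinarith [Nat.mul_le_mul hn hn]
    omega

theorem fourth_le_nine_pow (n : ℕ) (hn : 4 ≤ n) : 8 * n ^ 4 ≤ 9 ^ n := by
  induction n, hn using Nat.le_induction with
  | base => norm_num
  | succ n hn ih =>
    rw [pow_succ 9]
    have h1 : (n + 1) ≤ 5 * n / 4 + 1 := by omega
    have h2 : 4 * (n + 1) ≤ 5 * n := by omega
    have h3 : (4 * (n + 1)) ^ 4 ≤ (5 * n) ^ 4 := Nat.pow_le_pow_left h2 4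
    ring_nf at h3 ih ⊢
    omega

theorem le_three_pow (n : ℕ) (hn : 1 ≤ n) : n ≤ 3 ^ (n - 1) := by
  have := Nat.lt_pow_self (n := n - 1) (a := 3) (by norm_num)
  omega

theorem bound_step {q e : ℕ} (hq : q.Prime) (he : 1 ≤ e) :
    (q ^ 2 * e ^ 2 - 1) * (q * e ^ 2) * bound e ≤ bound (q * e) := by
  have hq2 := hq.two_le
  have hb := bound_le e
  rcases eq_or_lt_of_le hq2 with rfl | hq3
  · rcases Nat.lt_or_ge e 4 with he4 | he4
    · interval_cases e <;> simp [bound]
    · have hne : ¬ 2 * e = 2 := by omega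
      rw [show bound (2 * e) = 9 ^ (2 * e - 1) by simp [bound, hne],
        show 2 * e - 1 = e + (e - 1) by omega, pow_add]
      refine Nat.mul_le_mul (le_trans ?_ (fourth_le_nine_pow e he4)) hb
      refine le_trans (Nat.mul_le_mul_right _ (Nat.sub_le _ _)) (le_of_eq ?_)
      ring
  · have h3 : 3 ≤ q := hq3
    have hne : ¬ q * e = 2 := by
      have : 3 * 1 ≤ q * e := Nat.mul_le_mul h3 he
      omega
    have hexp : q * e - 1 = (q - 1) + (q - 1) * (e - 1) + (e - 1) := by
      obtain ⟨a, rfl⟩ : ∃ a, q = a + 1 := ⟨q - 1, by omega⟩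
      obtain ⟨b, rfl⟩ : ∃ b, e = b + 1 := ⟨e - 1, by omega⟩
      simp only [Nat.add_sub_cancel]
      ring_nf
      omega
    rw [show bound (q * e) = 9 ^ (q * e - 1) by simp [bound, hne], hexp, pow_add, pow_add]
    refine Nat.mul_le_mul ?_ hb
    refine le_trans (Nat.mul_le_mul_right _ (Nat.sub_le _ _)) ?_
    rw [show q ^ 2 * e ^ 2 * (q * e ^ 2) = q ^ 3 * e ^ 4 by ring]
    refine Nat.mul_le_mul (cube_le_nine_pow q h3) ?_
    rw [pow_mul]
    refine le_trans ?_ (Nat.pow_le_pow_left (show (81 : ℕ) ≤ 9 ^ (q - 1) from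
      le_trans (by norm_num) (Nat.pow_le_pow_right (by norm_num) (show 2 ≤ q - 1 by omega))) _)
    rw [show (81 : ℕ) = 3 ^ 4 by norm_num, ← pow_mul, mul_comm, pow_mul]
    exact Nat.pow_le_pow_left (le_three_pow e he) 4

universe u v

variable {E : Type v} [Field E]

/-- An alternating nondegenerate pairing on a group of square-free exponent. -/
structure IsPairing {P : Type u} [CommGroup P] (ω : P → P → Eˣ) : Prop where
  mul_left : ∀ a b c, ω (a * b) c = ω a c * ω b c
  mul_right : ∀ a b c, ω a (b * c) = ω a b * ω a c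
  alt : ∀ a, ω a a = 1
  nondeg : ∀ a, (∀ b, ω a b = 1) → a = 1
  sqfree : ∀ (a : P) (q : ℕ), q.Prime → a ^ (q * q) = 1 → a ^ q = 1

variable {P : Type u} [CommGroup P] {ω : P → P → Eˣ}

theorem IsPairing.anti (h : IsPairing ω) (a b : P) : ω b a = (ω a b)⁻¹ := by
  have h1 := h.alt (a * b)
  rw [h.mul_left, h.mul_right, h.mul_right, h.alt, h.alt, one_mul, mul_one] at h1
  exact eq_inv_of_mul_eq_one_right h1

/-- The pairing in the first variable. -/
def IsPairing.homL (h : IsPairing ω) (c : P) : P →* Eˣ :=
  MonoidHom.mk' (fun a => ω a c) fun a b => h.mul_left a b c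

/-- The pairing in the second variable. -/
def IsPairing.homR (h : IsPairing ω) (a : P) : P →* Eˣ :=
  MonoidHom.mk' (fun c => ω a c) fun b c => h.mul_right a b c

/-- Endomorphisms preserving the pairing and a subgroup. -/
def Stab (ω : P → P → Eˣ) (W : Subgroup P) : Type u :=
  {f : P →* P // (∀ a b, ω (f a) (f b) = ω a b) ∧ ∀ x ∈ W, f x ∈ W}

instance [Finite P] (W : Subgroup P) : Finite (Stab ω W) :=
  Finite.of_injective (fun f => (f.1 : P → P)) fun _ _ h =>
    Subtype.ext (DFunLike.coe_injective h)

theorem IsPairing.exists_pair [Finite P] (h : IsPairing ω) {q : ℕ} (hq : q.Prime) {u : P}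
    (hu : orderOf u = q) : ∃ w : P, w ^ q = 1 ∧ orderOf (ω u w) = q := by
  haveI : Fact q.Prime := ⟨hq⟩
  have hu1 : u ≠ 1 := fun h1 => hq.one_lt.ne (by rw [← hu, h1, orderOf_one])
  obtain ⟨b, hb⟩ : ∃ b, ω u b ≠ 1 := by
    by_contra hc
    push Not at hc
    exact hu1 (h.nondeg u hc)
  have hz : orderOf (ω u b) = q := orderOf_eq_prime (by
    show (h.homL b u) ^ q = 1
    rw [← map_pow, ← hu, pow_orderOf_eq_one, map_one]) hb
  have hdvd : q ∣ orderOf b := by
    rw [← hz]
    exact orderOf_dvd_of_pow_eq_one (show (h.homR u b) ^ orderOf b = 1 by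
      rw [← map_pow, pow_orderOf_eq_one, map_one])
  obtain ⟨m, hm⟩ := hdvd
  have hm0 : 0 < m := Nat.pos_of_ne_zero fun h0 => (orderOf_pos b).ne' (by rw [hm, h0, mul_zero])
  refine ⟨b ^ m, by rw [← pow_mul, mul_comm, ← hm, pow_orderOf_eq_one], ?_⟩
  rw [show ω u (b ^ m) = ω u b ^ m from map_pow (h.homR u) b m, Nat.Coprime.orderOf_pow, hz]
  rw [hz, hq.coprime_iff_not_dvd]
  rintro ⟨k, hk⟩
  have hk0 : 0 < k := Nat.pos_of_ne_zero fun h0 => hm0.ne' (by rw [hk, h0, mul_zero])
  have h1 := h.sqfree (b ^ k) q hq (by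
    rw [← pow_mul, show k * (q * q) = q * (q * k) by ring, ← hk, ← hm, pow_orderOf_eq_one])
  rw [← pow_mul] at h1
  have h2 := Nat.le_of_dvd (Nat.mul_pos hk0 hq.pos) (orderOf_dvd_of_pow_eq_one h1)
  rw [hm, hk] at h2
  nlinarith [hq.two_le, Nat.mul_pos hk0 hq.pos]

theorem main_aux : ∀ (n : ℕ) (P : Type u) [CommGroup P] [Finite P] (ω : P → P → Eˣ), IsPairing ω →
    Nat.card P ≤ n → ∃ e : ℕ, Nat.card P = e ^ 2 ∧ ∀ W : Subgroup P,
      (∀ a ∈ W, ∀ b ∈ W, ω a b = 1) →
        Nat.card W ≤ e ∧ Nat.card W * Nat.card (Stab ω W) ≤ bound e := by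
  intro n
  induction n with
  | zero => intro P _ _ _ _ h; exact absurd h (by have := Nat.card_pos (α := P); omega)
  | succ n ih =>
    intro P _ _ ω h hn
    classical
    by_cases htriv : Nat.card P = 1
    · haveI : Subsingleton P := (Nat.card_eq_one_iff_unique.1 htriv).1
      refine ⟨1, by simp [htriv], fun W _ => ?_⟩
      have h1 : Nat.card W = 1 := Nat.card_unique
      haveI : Subsingleton (Stab ω W) := ⟨fun f g =>
        Subtype.ext (MonoidHom.ext fun x => Subsingleton.elim _ _)⟩
      have h2 : Nat.card (Stab ω W) ≤ 1 := Finite.card_le_one_iff_subsingleton.2 inferInstance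
      simp [h1, bound, h2]
    haveI : Nontrivial P := by
      rw [← Finite.one_lt_card_iff_nontrivial]
      have := Nat.card_pos (α := P)
      omega
    -- one decomposition for each element of prime order
    have key : ∀ (q : ℕ) (u : P), q.Prime → orderOf u = q → ∃ e : ℕ, Nat.card P = (q * e) ^ 2 ∧
        ∀ W : Subgroup P, (∀ a ∈ W, ∀ b ∈ W, ω a b = 1) → (u ∈ W ∨ W = ⊥) →
          Nat.card W ≤ q * e ∧ Nat.card W * Nat.card (Stab ω W) ≤ bound (q * e) := by
      intro q u hq hu
      haveI : Fact q.Prime := ⟨hq⟩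
      haveI : NeZero q := ⟨hq.ne_zero⟩
      obtain ⟨w, hw, hz⟩ := h.exists_pair hq hu
      set z := ω u w with hzdef
      have huq : u ^ q = 1 := by rw [← hu, pow_orderOf_eq_one]
      have hzinv : ω w u = z⁻¹ := h.anti u w
      have hprim : IsPrimitiveRoot (z : E) q := by
        rw [← hz]
        exact (IsPrimitiveRoot.orderOf z).map_of_injective (f := Units.coeHom E) Units.val_injective
      have hroot : ∀ x : P, ∀ y : P, y ^ q = 1 → ∃ i < q, ω x y = z ^ i := by
        intro x y hy
        have h1 : ω x y ^ q = 1 := by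
          show (h.homR x y) ^ q = 1
          rw [← map_pow, hy, map_one]
        obtain ⟨i, hi, he⟩ := hprim.eq_pow_of_pow_eq_one (ξ := (ω x y : E)) (by
          rw [← Units.val_pow_eq_pow_val, h1, Units.val_one])
        exact ⟨i, hi, Units.ext (by rw [Units.val_pow_eq_pow_val, he])⟩
      let T : Subgroup P := (h.homL u).ker ⊓ (h.homL w).ker
      have hT : ∀ t, t ∈ T ↔ ω t u = 1 ∧ ω t w = 1 := fun t => Iff.rfl
      let ψ : Fin q × Fin q × T → P := fun c => u ^ (c.1 : ℕ) * w ^ (c.2.1 : ℕ) * (c.2.2 : P)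
      have hψu : ∀ c, ω (ψ c) u = z⁻¹ ^ (c.2.1 : ℕ) := by
        intro c
        show h.homL u (u ^ (c.1 : ℕ) * w ^ (c.2.1 : ℕ) * (c.2.2 : P)) = _
        rw [map_mul, map_mul, map_pow, map_pow]
        show ω u u ^ _ * ω w u ^ _ * ω (c.2.2 : P) u = _
        rw [h.alt, hzinv, ((hT _).1 c.2.2.2).1, one_pow, one_mul, mul_one]
      have hψw : ∀ c, ω (ψ c) w = z ^ (c.1 : ℕ) := by
        intro c
        show h.homL w (u ^ (c.1 : ℕ) * w ^ (c.2.1 : ℕ) * (c.2.2 : P)) = _
        rw [map_mul, map_mul, map_pow, map_pow]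
        show ω u w ^ _ * ω w w ^ _ * ω (c.2.2 : P) w = _
        rw [h.alt, ((hT _).1 c.2.2.2).2, one_pow, mul_one, mul_one]
      have hψ : Function.Bijective ψ := by
        constructor
        · rintro ⟨i, j, t⟩ ⟨i', j', t'⟩ he
          have e1 := congrArg (fun x => ω x w) he
          simp only [hψw] at e1
          have e2 := congrArg (fun x => ω x u) he
          simp only [hψu, inv_pow, inv_inj] at e2
          have hinj : ∀ a b : Fin q, z ^ (a : ℕ) = z ^ (b : ℕ) → a = b := fun a b hab => Fin.ext
            (hprim.pow_inj a.2 b.2 (by rw [← Units.val_pow_eq_pow_val, hab, Units.val_pow_eq_pow_val]))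
          obtain rfl := hinj _ _ e1
          obtain rfl := hinj _ _ e2
          exact Prod.ext rfl (Prod.ext rfl (Subtype.ext (mul_left_cancel he)))
        · intro x
          obtain ⟨i, hi, hie⟩ := hroot x w hw
          obtain ⟨j, hj, hje⟩ : ∃ j < q, ω x u = z⁻¹ ^ j := by
            obtain ⟨j, hj, he⟩ := hprim.inv.eq_pow_of_pow_eq_one (ξ := (ω x u : E)) (by
              rw [← Units.val_pow_eq_pow_val, show ω x u ^ q = 1 from by
                show (h.homR x u) ^ q = 1
                rw [← map_pow, huq, map_one], Units.val_one])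
            exact ⟨j, hj, Units.ext (by rw [Units.val_pow_eq_pow_val, Units.val_inv_eq_inv_val, he])⟩
          refine ⟨(⟨i, hi⟩, ⟨j, hj⟩, ⟨(u ^ i * w ^ j)⁻¹ * x, (hT _).2 ⟨?_, ?_⟩⟩),
            mul_inv_cancel_left (u ^ i * w ^ j) x⟩
          · show h.homL u ((u ^ i * w ^ j)⁻¹ * x) = 1
            rw [map_mul, map_inv, map_mul, map_pow, map_pow]
            show (ω u u ^ i * ω w u ^ j)⁻¹ * ω x u = 1
            rw [h.alt, hzinv, one_pow, one_mul, hje, inv_mul_cancel]
          · show h.homL w ((u ^ i * w ^ j)⁻¹ * x) = 1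
            rw [map_mul, map_inv, map_mul, map_pow, map_pow]
            show (ω u w ^ i * ω w w ^ j)⁻¹ * ω x w = 1
            rw [h.alt, one_pow, mul_one, hie, inv_mul_cancel]
      have hPT : Nat.card P = q ^ 2 * Nat.card T := by
        rw [← Nat.card_eq_of_bijective ψ hψ, Nat.card_prod, Nat.card_prod, Nat.card_fin]
        ring
      -- the pairing on `T`
      have hT' : IsPairing (fun a b : T => ω (a : P) b) := by
        refine ⟨fun a b c => h.mul_left _ _ _, fun a b c => h.mul_right _ _ _, fun a => h.alt _,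
          fun a ha => Subtype.ext (h.nondeg a fun x => ?_),
          fun a r hr ha => Subtype.ext (h.sqfree (a : P) r hr (congrArg Subtype.val ha))⟩
        obtain ⟨⟨i, j, t⟩, rfl⟩ := hψ.2 x
        show h.homR (a : P) (u ^ (i : ℕ) * w ^ (j : ℕ) * (t : P)) = 1
        rw [map_mul, map_mul, map_pow, map_pow]
        show ω (a : P) u ^ _ * ω (a : P) w ^ _ * ω (a : P) t = 1
        rw [((hT _).1 a.2).1, ((hT _).1 a.2).2, ha t]
        simp
      have hTlt : Nat.card T ≤ n := by
        have h4 : 4 * Nat.card T ≤ q ^ 2 * Nat.card T :=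
          Nat.mul_le_mul_right _ (Nat.pow_le_pow_left hq.two_le 2)
        have := Nat.card_pos (α := T)
        omega
      obtain ⟨e, he, hW'⟩ := ih T _ hT' hTlt
      have he1 : 1 ≤ e := by
        rcases Nat.eq_zero_or_pos e with rfl | h0
        · have := Nat.card_pos (α := T)
          rw [he, zero_pow two_ne_zero] at this
          omega
        · exact h0
      refine ⟨e, by rw [hPT, he]; ring, fun W hW huW => ?_⟩
      let W' : Subgroup T := W.subgroupOf T
      obtain ⟨hW'e, hW'S⟩ := hW' W' fun a ha b hb => hW _ ha _ hb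
      have hWcard : Nat.card W ≤ q * Nat.card W' := by
        rcases huW with huW | rfl
        · have hdec : ∀ x : W, ∃ (i : Fin q) (t : W'), (x : P) = u ^ (i : ℕ) * ((t : T) : P) := by
            intro x
            obtain ⟨⟨i, j, t⟩, hx⟩ := hψ.2 (x : P)
            have hj : z⁻¹ ^ (j : ℕ) = 1 := by rw [← hψu ⟨i, j, t⟩, hx]; exact hW _ x.2 _ huW
            have hj0 : (j : ℕ) = 0 := by
              refine hprim.inv.pow_inj j.2 hq.pos ?_
              rw [pow_zero, ← Units.val_inv_eq_inv_val, ← Units.val_pow_eq_pow_val, hj, Units.val_one]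
            have hx' : (x : P) = u ^ (i : ℕ) * (t : P) := by
              rw [← hx]
              show _ * w ^ (j : ℕ) * _ = _
              rw [hj0, pow_zero, mul_one]
            refine ⟨i, ⟨t, ?_⟩, hx'⟩
            rw [Subgroup.mem_subgroupOf]
            have := mul_mem (inv_mem (pow_mem huW (i : ℕ))) x.2
            rwa [hx', inv_mul_cancel_left] at this
          choose fi ft hft using hdec
          refine (Nat.card_le_card_of_injective (fun x : W => (fi x, ft x)) fun x y hxy => ?_).trans
            (le_of_eq (by rw [Nat.card_prod, Nat.card_fin]))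
          simp only [Prod.mk.injEq] at hxy
          exact Subtype.ext (by rw [hft x, hft y, hxy.1, hxy.2])
        · rw [Subgroup.card_bot]
          exact Nat.mul_pos hq.pos Nat.card_pos
      have hWe : Nat.card W ≤ q * e := hWcard.trans (Nat.mul_le_mul_left _ hW'e)
      refine ⟨hWe, ?_⟩
      let U0 : Subgroup P := if W = ⊥ then ⊤ else W
      have hsurj : ∀ f : Stab ω W, Function.Injective f.1 := fun f => by
        rw [injective_iff_map_eq_one]
        intro a ha
        refine h.nondeg a fun b => ?_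
        rw [← f.2.1 a b, ha]
        exact map_one (h.homL (f.1 b))
      have hU0u : u ∈ U0 := by
        rcases huW with huW | rfl
        · simp only [U0]; split_ifs with hb
          · trivial
          · exact huW
        · simp [U0]
      have hU0f : ∀ f : Stab ω W, f.1 u ∈ U0 := by
        intro f
        simp only [U0]; split_ifs with hb
        · trivial
        · exact f.2.2 u (huW.resolve_right hb)
      have hu1 : u ≠ 1 := fun h1 => hq.one_lt.ne (by rw [← hu, h1, orderOf_one])
      let A := {a : U0 // a ≠ 1}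
      let imgA : Stab ω W → A := fun f => ⟨⟨f.1 u, hU0f f⟩, fun h1 =>
        hu1 (hsurj f ((congrArg Subtype.val h1).trans (map_one f.1).symm))⟩
      haveI : Fintype A := Fintype.ofFinite A
      have hfirst : ∀ a : A, Nat.card {f : Stab ω W // imgA f = a} ≤
          q * Nat.card T * Nat.card (Stab (fun a b : T => ω (a : P) b) W') := by
        intro a
        by_cases hne : IsEmpty {f : Stab ω W // imgA f = a}
        · simp
        obtain ⟨⟨f₁, hf₁⟩⟩ := not_isEmpty_iff.1 hne
        have ha1 : f₁.1 u = ((a : U0) : P) := congrArg (fun x : A => ((x : U0) : P)) hf₁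
        set a' : P := ((a : U0) : P)
        let B := {b : P // ω a' b = z}
        haveI : Fintype B := Fintype.ofFinite B
        have hB : Nat.card B ≤ q * Nat.card T := by
          have hmem : f₁.1 w ∈ {b : P | ω a' b = z} := by
            show ω a' (f₁.1 w) = z
            rw [← ha1, f₁.2.1]
          have hle : Nat.card B ≤ Nat.card (h.homR a').ker := by
            refine Nat.card_le_card_of_injective (fun b => ⟨b.1 * (f₁.1 w)⁻¹, ?_⟩) fun b c hbc =>
              Subtype.ext (mul_right_cancel (congrArg Subtype.val hbc))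
            rw [MonoidHom.mem_ker, map_mul, map_inv]
            show ω a' b.1 * (ω a' (f₁.1 w))⁻¹ = 1
            rw [b.2, show ω a' (f₁.1 w) = z from hmem, mul_inv_cancel]
          have hq' : q ≤ Nat.card (h.homR a').range := by
            rw [← hz]
            haveI : Finite (h.homR a').range :=
              Finite.of_surjective _ (h.homR a').rangeRestrict_surjective
            have hzr : z ∈ (h.homR a').range := ⟨f₁.1 w, hmem⟩
            calc orderOf z = orderOf (⟨z, hzr⟩ : (h.homR a').range) :=
                (Subgroup.orderOf_coe (⟨z, hzr⟩ : (h.homR a').range))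
              _ ≤ _ := orderOf_le_card
          have h5 := (h.homR a').ker.card_mul_index
          rw [Subgroup.index_ker, hPT] at h5
          refine hle.trans ?_
          refine Nat.le_of_mul_le_mul_right ?_ hq.pos
          calc Nat.card (h.homR a').ker * q ≤ _ := Nat.mul_le_mul_left _ hq'
            _ = _ := h5
            _ = _ := by ring
        let img : {f : Stab ω W // imgA f = a} → B := fun f => ⟨f.1.1 w, by
          rw [← show f.1.1 u = a' from congrArg (fun x : A => ((x : U0) : P)) f.2, f.1.2.1]⟩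
        rw [← Nat.card_congr (Equiv.sigmaFiberEquiv img), Nat.card_sigma]
        refine (Finset.sum_le_card_nsmul _ _ _ fun b _ => ?_).trans (by
          rw [smul_eq_mul, Finset.card_univ, ← Nat.card_eq_fintype_card]
          exact Nat.mul_le_mul_right _ hB)
        by_cases hne' : IsEmpty {f // img f = b}
        · simp
        obtain ⟨⟨f₀, hf₀⟩⟩ := not_isEmpty_iff.1 hne'
        have hbij : Function.Bijective f₀.1.1 := Finite.injective_iff_bijective.1 (hsurj f₀.1)
        let F : P ≃* P := MulEquiv.ofBijective f₀.1.1 hbij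
        have hFW : ∀ x ∈ W, F.symm x ∈ W := by
          intro x hx
          have hs : Function.Surjective (fun y : W => (⟨f₀.1.1 y, f₀.1.2.2 y y.2⟩ : W)) :=
            Finite.surjective_of_injective fun y y' hy =>
              Subtype.ext (hsurj f₀.1 (congrArg Subtype.val hy))
          obtain ⟨y, hy⟩ := hs ⟨x, hx⟩
          rw [show x = F y from (congrArg Subtype.val hy).symm, MulEquiv.symm_apply_apply]
          exact y.2
        have hFω : ∀ x y, ω (F.symm x) (F.symm y) = ω x y := fun x y => by
          rw [← f₀.1.2.1 (F.symm x) (F.symm y)]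
          congr 1 <;> exact F.apply_symm_apply _
        have hfix : ∀ f : {f // img f = b}, F.symm (f.1.1.1 u) = u ∧ F.symm (f.1.1.1 w) = w := by
          intro f
          constructor
          · rw [MulEquiv.symm_apply_eq]
            exact (congrArg (fun x : A => ((x : U0) : P)) f.1.2).trans
              (congrArg (fun x : A => ((x : U0) : P)) f₀.2).symm
          · rw [MulEquiv.symm_apply_eq]
            exact (congrArg Subtype.val f.2).trans (congrArg Subtype.val hf₀).symm
        have hmem : ∀ (f : {f // img f = b}) (t : T), F.symm (f.1.1.1 t) ∈ T := by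
          intro f t
          refine (hT _).2 ⟨?_, ?_⟩
          · rw [← (hfix f).1, hFω, f.1.1.2.1]; exact ((hT _).1 t.2).1
          · rw [← (hfix f).2, hFω, f.1.1.2.1]; exact ((hT _).1 t.2).2
        let res : {f // img f = b} → Stab (fun a b : T => ω (a : P) b) W' := fun f =>
          ⟨MonoidHom.mk' (fun t => ⟨F.symm (f.1.1.1 t), hmem f t⟩) fun s t => Subtype.ext (by simp),
            fun s t => (hFω _ _).trans (f.1.1.2.1 _ _), fun t ht => hFW _ (f.1.1.2.2 _ ht)⟩
        refine Nat.card_le_card_of_injective res fun f g hfg => ?_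
        have hTeq : ∀ t : T, f.1.1.1 t = g.1.1.1 t := fun t => F.symm.injective
          (congrArg (fun k => ((k.1 t : T) : P)) hfg)
        apply Subtype.ext; apply Subtype.ext; apply Subtype.ext
        refine MonoidHom.ext fun x => ?_
        obtain ⟨⟨i, j, t⟩, rfl⟩ := hψ.2 x
        show f.1.1.1 (u ^ (i : ℕ) * w ^ (j : ℕ) * (t : P)) = g.1.1.1 (u ^ (i : ℕ) * w ^ (j : ℕ) * (t : P))
        rw [map_mul, map_mul, map_pow, map_pow, map_mul, map_mul, map_pow, map_pow, hTeq,
          show f.1.1.1 u = g.1.1.1 u from F.symm.injective ((hfix f).1.trans (hfix g).1.symm),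
          show f.1.1.1 w = g.1.1.1 w from F.symm.injective ((hfix f).2.trans (hfix g).2.symm)]
      have hA : Nat.card W * Nat.card A ≤ (q * e) ^ 2 - 1 := by
        have hAc : Nat.card A = Nat.card U0 - 1 := by
          haveI := Fintype.ofFinite U0
          rw [Nat.card_eq_fintype_card, Nat.card_eq_fintype_card, Fintype.card_subtype_compl,
            Fintype.card_subtype_eq]
        rw [hAc]
        by_cases hb : W = ⊥
        · subst hb
          simp only [U0, if_true]
          rw [Subgroup.card_bot, one_mul, Subgroup.card_top, hPT, he]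
          exact le_of_eq (by ring_nf)
        · simp only [U0, if_neg hb]
          have h2 : 1 ≤ q * e := Nat.mul_pos hq.pos he1
          calc Nat.card W * (Nat.card W - 1) ≤ q * e * (q * e - 1) :=
                Nat.mul_le_mul hWe (Nat.sub_le_sub_right hWe 1)
            _ ≤ _ := by
              rw [sq, Nat.mul_sub, mul_one]
              omega
      have hsum : Nat.card (Stab ω W) ≤ Nat.card A *
          (q * Nat.card T * Nat.card (Stab (fun a b : T => ω (a : P) b) W')) := by
        rw [← Nat.card_congr (Equiv.sigmaFiberEquiv imgA), Nat.card_sigma]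
        refine (Finset.sum_le_card_nsmul _ _ _ fun a _ => hfirst a).trans ?_
        rw [smul_eq_mul, Finset.card_univ, ← Nat.card_eq_fintype_card]
      have hS' : Nat.card (Stab (fun a b : T => ω (a : P) b) W') ≤ bound e :=
        le_trans (Nat.le_mul_of_pos_left _ Nat.card_pos) hW'S
      calc Nat.card W * Nat.card (Stab ω W)
          ≤ Nat.card W * (Nat.card A * (q * Nat.card T *
              Nat.card (Stab (fun a b : T => ω (a : P) b) W'))) := Nat.mul_le_mul_left _ hsum
        _ = Nat.card W * Nat.card A * (q * Nat.card T) *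
              Nat.card (Stab (fun a b : T => ω (a : P) b) W') := by ring
        _ ≤ ((q * e) ^ 2 - 1) * (q * e ^ 2) * bound e :=
            Nat.mul_le_mul (Nat.mul_le_mul hA (by rw [he])) hS'
        _ ≤ bound (q * e) := by rw [mul_pow]; exact bound_step hq he1
    obtain ⟨q, hq, hqdvd⟩ := Nat.exists_prime_and_dvd htriv
    haveI : Fact q.Prime := ⟨hq⟩
    obtain ⟨u₀, hu₀⟩ := exists_prime_orderOf_dvd_card' (G := P) q hqdvd
    obtain ⟨e₀, he₀, -⟩ := key q u₀ hq hu₀
    refine ⟨q * e₀, he₀, fun W hW => ?_⟩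
    by_cases hb : W = ⊥
    · obtain ⟨e₁, he₁, hall⟩ := key q u₀ hq hu₀
      rw [Nat.pow_left_injective two_ne_zero (he₀.symm.trans he₁)]
      exact hall W hW (Or.inr hb)
    · obtain ⟨r, hr, hrdvd⟩ := Nat.exists_prime_and_dvd (mt Subgroup.card_eq_one.1 hb)
      haveI : Fact r.Prime := ⟨hr⟩
      obtain ⟨x, hx⟩ := exists_prime_orderOf_dvd_card' (G := W) r hrdvd
      obtain ⟨e₁, he₁, hall⟩ := key r (x : P) hr (by rw [Subgroup.orderOf_coe, hx])
      rw [Nat.pow_left_injective two_ne_zero (he₀.symm.trans he₁)]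
      exact hall W hW (Or.inl x.2)

/-- An isotropic subgroup times its stabiliser. -/
theorem main {P : Type u} [CommGroup P] [Finite P] {ω : P → P → Eˣ} (h : IsPairing ω) :
    ∃ e : ℕ, Nat.card P = e ^ 2 ∧ ∀ W : Subgroup P, (∀ a ∈ W, ∀ b ∈ W, ω a b = 1) →
      Nat.card W * Nat.card (Stab ω W) ≤ 9 ^ (e - 1) := by
  obtain ⟨e, he, hW⟩ := main_aux _ P ω h le_rfl
  exact ⟨e, he, fun W hW' => (hW W hW').2.trans (bound_le e)⟩

end H27.KGV.Pairing
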