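import Cfsg.Agent.H27.KGV.FieldCase

/-!
A coprime solvable linear group in dimension `a` has a vector stabiliser of order at most
`9 ^ (a - 1)`.
-/

set_option autoImplicit false
set_option linter.style.haveILetI false

namespace H27.KGV

universe u v

theorem largeBelow (p : ℕ) [Fact p.Prime] : ∀ n, LargeBelow.{u, v} p n := by
  intro n
  induction n with
  | zero => intro K _ _ V _ _ _ _ ρ _ _ _ h; exact absurd h (Nat.not_lt_zero _)
  | succ n ih =>
    intro K _ _ V _ _ _ _ ρ hinj hsolv hcop hn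
    have hn' : Module.finrank (ZMod p) V ≤ n := Nat.lt_succ_iff.1 hn
    by_cases hirr : ∀ W : Submodule (ZMod p) V, (∀ k, ∀ w ∈ W, ρ k w ∈ W) → W = ⊥ ∨ W = ⊤
    swap
    · push Not at hirr
      obtain ⟨W, hW, hW0, hW1⟩ := hirr
      exact exists_of_reducible ih ρ hinj hsolv hcop hn' W hW hW0 hW1
    by_cases hfield : ∀ A : Subgroup K, A.Normal → (∀ a ∈ A, ∀ b ∈ A, a * b = b * a) →
        ∀ x ∈ ringOf ρ A, x ≠ 0 → Function.Injective x
    swap
    · push Not at hfield
      obtain ⟨A, hA, hcomm, x, hx, hx0, hxi⟩ := hfield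
      haveI := hA
      obtain ⟨sy, hsy, -⟩ := exists_sys ρ A hcomm
        (hcop.coprime_dvd_left (Subgroup.card_subgroup_dvd_card A)) hx hx0 hxi
      exact exists_of_system ih ρ hinj hsolv hcop hn' hirr sy hsy
    obtain ⟨A, ⟨hAn, hAc⟩, hmax⟩ := (Set.toFinite
      {A : Subgroup K | A.Normal ∧ ∀ a ∈ A, ∀ b ∈ A, a * b = b * a}).exists_maximal
      ⟨⊥, inferInstance, fun a ha b _ => by rw [Subgroup.mem_bot.1 ha, one_mul, mul_one]⟩
    haveI := hAn
    obtain ⟨v, hv⟩ := exists_ne (0 : V)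
    exact ⟨v, card_stab_le_of_field ρ hinj hsolv A hAc (fun B hB hBc hAB => hmax ⟨hB, hBc⟩ hAB)
      (hfield A hAn hAc) hv⟩

/-- Large orbits of coprime solvable linear groups. -/
theorem exists_small_stab {p : ℕ} [Fact p.Prime] {K : Type u} [Group K] [Finite K] {V : Type v}
    [AddCommGroup V] [Module (ZMod p) V] [Finite V] [Nontrivial V] (ρ : Representation (ZMod p) K V)
    (hinj : Function.Injective ρ) (hsolv : Group.IsSolvable K) (hcop : (Nat.card K).Coprime p) :
    ∃ v : V, Nat.card {k : K // ρ k v = v} ≤ 9 ^ (Module.finrank (ZMod p) V - 1) :=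
  largeBelow p _ K V ρ hinj hsolv hcop (Nat.lt_succ_self _)

end H27.KGV
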