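import Cfsg.Agent.H18.FixedExtension
import Cfsg.Agent.H15.Extension
import Cfsg.Agent.H13.Gallagher
import Cfsg.Agent.S0886

/-!
At most `k(G/N)` irreducible characters lie over an invariant character of `N`.
-/

set_option autoImplicit false
set_option linter.style.haveILetI false

open Cfsg

namespace H27.KGV

universe u

variable {G : Type u} [Group G] [Fintype G] (N : Subgroup G) [hN : N.Normal] [Fintype N]

/-- On a coset `g N` all characters over `θ` are proportional to one function. -/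
theorem exists_coset_shape (θ : IrrCharacter N)
    (hinv : ∀ (g : G) (n : N), (θ : N → ℂ) ⟨g * n * g⁻¹, hN.conj_mem n n.2 g⟩ = (θ : N → ℂ) n)
    (g : G) : ∃ φ : N → ℂ, ∀ χ : IrrCharacter G,
      classInner (fun n : N => (χ : G → ℂ) n) (θ : N → ℂ) ≠ 0 →
        ∃ c : ℂ, ∀ n : N, (χ : G → ℂ) (g * n) = c * φ n := by
  classical
  let S : Subgroup G := N ⊔ Subgroup.zpowers g
  have hNS : N ≤ S := le_sup_left
  have hgS : g ∈ S := Subgroup.mem_sup_right (Subgroup.mem_zpowers g)
  let R : Subgroup S := N.subgroupOf S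
  haveI : R.Normal := Subgroup.normal_subgroupOf
  haveI := Fintype.ofFinite S
  haveI := Fintype.ofFinite R
  haveI : Fintype (S ⧸ R) := Fintype.ofFinite _
  let e : R ≃* N := Subgroup.subgroupOfEquivOfLe hNS
  let θR : R → ℂ := (θ : N → ℂ) ∘ e
  have hθR : IsIrrCharacter R θR := H13.isIrrCharacter_comp_equiv e θ.2
  have hcyc : IsCyclic (S ⧸ R) := by
    refine isCyclic_of_surjective ((QuotientGroup.mk' R).comp
      (Subgroup.inclusion (le_sup_right : Subgroup.zpowers g ≤ S))) ?_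
    intro x
    induction x using QuotientGroup.induction_on with | H a => ?_
    obtain ⟨u, hu, z, hz, he⟩ := Subgroup.mem_sup_of_normal_left.1 a.2
    refine ⟨⟨z, hz⟩, ?_⟩
    show ((Subgroup.inclusion (le_sup_right : Subgroup.zpowers g ≤ S) ⟨z, hz⟩ : S) : S ⧸ R) = _
    rw [QuotientGroup.eq, Subgroup.mem_subgroupOf]
    show z⁻¹ * (a : G) ∈ N
    rw [← he, ← mul_assoc]
    have := hN.conj_mem u hu z⁻¹
    rwa [inv_inv] at this
  have hinvR : ∀ (s : S) (r : R), θR ⟨s * r * s⁻¹, Subgroup.Normal.conj_mem inferInstance _ r.2 s⟩ = θR r :=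
    fun s r => hinv (s : G) (e r)
  obtain ⟨η, hη, hres⟩ := Cfsg.Agent.S0886.result R hcyc θR hθR hinvR
  refine ⟨fun n => η ⟨g * n, mul_mem hgS (hNS n.2)⟩, fun χ hχ => ?_⟩
  obtain ⟨m, hm⟩ := H12.IsCharacter.exists_mult (H12.IsCharacter.res (H12.isCharacter_irr χ) S)
  have hres' : (fun r : R => η r) = θR := funext hres
  have hcon : ∀ ψ : IrrCharacter S, m ψ ≠ 0 →
      classInner (fun r : R => (ψ : S → ℂ) r) θR ≠ 0 := by
    intro ψ hψ
    have hψ0 : (ψ : S → ℂ) ≠ 0 := H12.irr_ne_zero ψ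
    obtain ⟨φ, hφ⟩ := H13.exists_constituent R (H12.isCharacter_irr ψ) hψ0
    by_cases hφθ : (φ : R → ℂ) = θR
    · rwa [hφθ] at hφ
    exfalso
    have hsm := H18.res_eq_smul_of_invariant N θ.2 (fun x => funext fun n => hinv x n) χ hχ
    have hR : (fun r : R => (χ : G → ℂ) ((r : S) : G)) =
        classInner (fun n : N => (χ : G → ℂ) n) (θ : N → ℂ) • θR := by
      funext r
      exact congrFun hsm (e r)
    have hz : classInner (fun r : R => (χ : G → ℂ) ((r : S) : G)) (φ : R → ℂ) = 0 := by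
      rw [hR, H12.classInner_smul_left]
      have := H12.classInner_irr (⟨θR, hθR⟩ : IrrCharacter R) φ
      rw [if_neg (fun h => hφθ (congrArg Subtype.val h).symm)] at this
      rw [this, mul_zero]
    have hexp : (fun r : R => (χ : G → ℂ) ((r : S) : G)) =
        ∑ ξ, (m ξ : ℂ) • fun r : R => (ξ : S → ℂ) r := by
      funext r
      have := congrFun hm (r : S)
      simpa [Finset.sum_apply] using this
    rw [hexp, H12.classInner_sum_left] at hz
    simp only [H12.classInner_smul_left] at hz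
    choose k hk using fun ξ : IrrCharacter S => H12.IsCharacter.classInner_nat
      (H12.IsCharacter.res (H12.isCharacter_irr ξ) R) (H12.isCharacter_irr φ)
    simp only [hk] at hz
    have h1 : ∑ ξ, m ξ * k ξ = 0 := by exact_mod_cast hz
    have h2 := (Finset.sum_eq_zero_iff.1 h1) ψ (Finset.mem_univ ψ)
    rcases Nat.mul_eq_zero.1 h2 with h3 | h3
    · exact hψ h3
    · exact hφ (by rw [hk ψ, h3, Nat.cast_zero])
  have hβ : ∀ ψ : IrrCharacter S, ∃ c : ℂ, ∀ n : N,
      (m ψ : ℂ) * (ψ : S → ℂ) ⟨g * n, mul_mem hgS (hNS n.2)⟩ =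
        c * η ⟨g * n, mul_mem hgS (hNS n.2)⟩ := by
    intro ψ
    by_cases hψ : m ψ = 0
    · exact ⟨0, fun n => by simp [hψ]⟩
    obtain ⟨β, hβ⟩ := H13.gallagher_exists R (η := η) (H12.isCharacter_of_isIrrCharacter hη)
      (hres'.symm ▸ hθR) ψ.2 (by rw [hres']; exact hcon ψ hψ)
    refine ⟨(m ψ : ℂ) * (β : S ⧸ R → ℂ) ((⟨g, hgS⟩ : S) : S ⧸ R), fun n => ?_⟩
    rw [congrFun hβ, Pi.mul_apply, H13.inflateIrr_apply]
    have : ((⟨g * n, mul_mem hgS (hNS n.2)⟩ : S) : S ⧸ R) = ((⟨g, hgS⟩ : S) : S ⧸ R) := by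
      rw [QuotientGroup.eq, Subgroup.mem_subgroupOf]
      show (g * (n : G))⁻¹ * g ∈ N
      simp
    rw [this]
    ring
  choose c hc using hβ
  refine ⟨∑ ψ, c ψ, fun n => ?_⟩
  have := congrFun hm ⟨g * n, mul_mem hgS (hNS n.2)⟩
  simp only [Finset.sum_apply, Pi.smul_apply, smul_eq_mul] at this
  rw [Finset.sum_mul, ← Finset.sum_congr rfl fun ψ _ => hc ψ n]
  exact this

/-- At most `k(G/N)` characters lie over an invariant `θ`. -/
theorem card_over_le (θ : IrrCharacter N)
    (hinv : ∀ (g : G) (n : N), (θ : N → ℂ) ⟨g * n * g⁻¹, hN.conj_mem n n.2 g⟩ = (θ : N → ℂ) n) :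
    Nat.card {χ : IrrCharacter G // classInner (fun n : N => (χ : G → ℂ) n) (θ : N → ℂ) ≠ 0} ≤
      Nat.card (ConjClasses (G ⧸ N)) := by
  classical
  haveI : Fintype (ConjClasses (G ⧸ N)) := Fintype.ofFinite _
  let I := {χ : IrrCharacter G // classInner (fun n : N => (χ : G → ℂ) n) (θ : N → ℂ) ≠ 0}
  haveI : Fintype I := Fintype.ofFinite _
  have hrep : ∀ C : ConjClasses (G ⧸ N), ∃ g : G, ConjClasses.mk (g : G ⧸ N) = C := fun C => by
    obtain ⟨q, rfl⟩ := ConjClasses.exists_rep C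
    obtain ⟨g, rfl⟩ := QuotientGroup.mk_surjective q
    exact ⟨g, rfl⟩
  choose r hr using hrep
  choose φ hφ using fun C => exists_coset_shape N θ hinv (r C)
  choose a ha using fun (χ : I) (C : ConjClasses (G ⧸ N)) => hφ C χ.1 χ.2
  have hli : LinearIndependent ℂ a := by
    rw [Fintype.linearIndependent_iff]
    intro c hc χ₀
    have hzero : ∑ χ : I, c χ • ((χ.1 : IrrCharacter G) : G → ℂ) = 0 := by
      funext x
      obtain ⟨y, hy⟩ := isConj_iff.1 (ConjClasses.mk_eq_mk_iff_isConj.1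
        (hr (ConjClasses.mk (x : G ⧸ N))))
      obtain ⟨y, rfl⟩ := QuotientGroup.mk_surjective y
      set C := ConjClasses.mk (x : G ⧸ N)
      have hn : (r C)⁻¹ * (y⁻¹ * x * y) ∈ N := by
        rw [← QuotientGroup.eq_one_iff]
        simp only [QuotientGroup.mk_mul, QuotientGroup.mk_inv, ← hy]
        group
      have hval : ∀ χ : I, ((χ.1 : IrrCharacter G) : G → ℂ) x = a χ C * φ C ⟨_, hn⟩ := fun χ => by
        rw [← ha χ C ⟨_, hn⟩, mul_inv_cancel_left]
        exact (H12.IsClassFunction.of_isConj (H12.irr_isClassFunction χ.1) (isConj_iff.2 ⟨y, by group⟩)).symm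
      simp only [Finset.sum_apply, Pi.smul_apply, smul_eq_mul, Pi.zero_apply, hval]
      have := congrFun hc C
      simp only [Finset.sum_apply, Pi.smul_apply, smul_eq_mul, Pi.zero_apply] at this
      simp only [← mul_assoc, ← Finset.sum_mul, this, zero_mul]
    exact (Fintype.linearIndependent_iff.1 ((H12.linearIndependent_irr G).comp _
      Subtype.val_injective)) c hzero χ₀
  have := hli.fintype_card_le_finrank
  rw [Module.finrank_pi] at this
  simpa [I, Nat.card_eq_fintype_card] using this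

end H27.KGV
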