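import Cfsg.Agent.H27.KGV.SplitBound
import Cfsg.Agent.H27.ClassNumber
import Cfsg.Agent.H31.InvariantMax
import Cfsg.Agent.H68.Quadratic
import Cfsg.Agent.H1.Hall

/-!
`k(X) ≤ 3^(d-1) p^d` for solvable `X` with `O_{p'}(X) = 1` and `|X|_p = p^d`.
-/

set_option autoImplicit false
set_option linter.style.haveILetI false

open Cfsg

namespace H27.KGV

universe u

variable {p : ℕ} [hp : Fact p.Prime] {M : Ideal AlgInt}

theorem classes_le_solvable (hM : IsPModular p M) {X : Type u} [Group X] [Fintype X] [Group.IsSolvable X]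
    (hcore : pPrimeCore p X = ⊥) {d : ℕ} (hd : (Nat.card X).factorization p = d) (hd0 : 0 < d) :
    Nat.card (ConjClasses X) ≤ 3 ^ (d - 1) * p ^ d := by
  classical
  have hps : IsPSolvable p X := H10.isPSolvable_of_isSolvable
  set F := pCore p X with hF
  haveI hFn : F.Normal := H1.pCore_normal' p X
  have hC := H10.centralizer_pCore_le hps hcore
  have hFp : IsPGroup p F := H1.isPGroup_pCore p X
  set Φ : Subgroup X := (frattini F).map F.subtype with hΦ
  haveI hΦn : Φ.Normal := inferInstance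
  have hΦF : Φ ≤ F := Subgroup.map_subtype_le _
  let π := QuotientGroup.mk' Φ
  have hπ : Function.Surjective π := QuotientGroup.mk'_surjective Φ
  set V : Subgroup (X ⧸ Φ) := F.map π with hV
  haveI hVn : V.Normal := hFn.map π hπ
  haveI : Fintype (X ⧸ Φ) := Fintype.ofFinite _
  have hexp : ∀ w ∈ V, w ^ p = 1 := by
    rintro _ ⟨x, hx, rfl⟩
    rw [← map_pow]
    exact (QuotientGroup.eq_one_iff _).2
      ⟨(⟨x, hx⟩ : F) ^ p, H31.pow_mem_frattini hFp ⟨x, hx⟩, rfl⟩
  have hself : Subgroup.centralizer (V : Set (X ⧸ Φ)) = V := by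
    refine le_antisymm (fun c hc => ?_) fun c hc => ?_
    · obtain ⟨x, rfl⟩ := hπ c
      refine Subgroup.mem_map_of_mem π (H68.mem_pCore_of_trivial_mod_frattini hC fun q hq => ?_)
      have h1 := Subgroup.mem_centralizer_iff.1 hc (π q) (Subgroup.mem_map_of_mem π hq)
      refine (QuotientGroup.eq_one_iff _).1 ?_
      show π (x * q * x⁻¹ * q⁻¹) = 1
      rw [map_mul, map_mul, map_mul, ← h1, map_inv, map_inv]
      group
    · obtain ⟨x, hx, rfl⟩ := hc
      rw [Subgroup.mem_centralizer_iff]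
      rintro _ ⟨y, hy, rfl⟩
      rw [← map_mul, ← map_mul]
      refine (QuotientGroup.eq (s := Φ)).2 ?_
      refine ⟨(⟨y, hy⟩ * ⟨x, hx⟩ : F)⁻¹ * (⟨x, hx⟩ * ⟨y, hy⟩), ?_, rfl⟩
      have := H31.commutator_le_frattini hFp
        (Subgroup.commutator_mem_commutator (Subgroup.mem_top (⟨x, hx⟩⁻¹ : F))
          (Subgroup.mem_top (⟨y, hy⟩⁻¹ : F)))
      rw [SetLike.mem_coe]
      convert this using 1
      simp only [commutatorElement_def, inv_inv, mul_inv_rev]
      group
  -- orders
  obtain ⟨f, hf⟩ := IsPGroup.iff_card.mp hFp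
  have hVp : IsPGroup p V := hFp.map π
  obtain ⟨a, ha⟩ := IsPGroup.iff_card.mp hVp
  have hXq : Nat.card X = Nat.card (X ⧸ Φ) * Nat.card Φ := Subgroup.card_eq_card_quotient_mul_card_subgroup Φ
  obtain ⟨j, hj⟩ := IsPGroup.iff_card.mp (hFp.to_le hΦF)
  have hq : (Nat.card (X ⧸ Φ)).factorization p + j = d := by
    rw [← hd, hXq, hj, Nat.factorization_mul Nat.card_pos.ne' (pow_ne_zero _ hp.out.ne_zero),
      Finsupp.add_apply, hp.out.factorization_pow, Finsupp.single_eq_same]
  -- `V` is nontrivial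
  have ha0 : 0 < a := by
    by_contra h0
    have hVb : V = ⊥ := Subgroup.card_eq_one.1 (by rw [ha, show a = 0 by omega, pow_zero])
    have h1 : Subgroup.centralizer (V : Set (X ⧸ Φ)) = ⊤ :=
      eq_top_iff.2 fun c _ => Subgroup.mem_centralizer_iff.2 fun y hy => by
        rw [SetLike.mem_coe, hVb, Subgroup.mem_bot] at hy
        rw [hy, one_mul, mul_one]
    rw [hself, hVb] at h1
    have hsub : Nat.card (X ⧸ Φ) = 1 := by rw [← Subgroup.card_top, ← h1, Subgroup.card_bot]
    have hΦtop : Φ = ⊤ := Subgroup.eq_top_of_card_eq Φ (by rw [hXq, hsub, one_mul])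
    have hFtop : (frattini F) = ⊤ := by
      refine Subgroup.map_injective F.subtype_injective ?_
      rw [← hΦ, hΦtop, ← MonoidHom.range_eq_map, Subgroup.range_subtype]
      exact (top_le_iff.1 (hΦtop ▸ hΦF)).symm
    rcases subsingleton_or_nontrivial F with hs | hs
    · have hX1 : Nat.card X = 1 := by
        rw [← Subgroup.card_top, show (⊤ : Subgroup X) = F from (top_le_iff.1 (hΦtop ▸ hΦF)).symm]
        exact Nat.card_unique
      rw [hX1] at hd
      simp at hd
      omega
    · obtain ⟨m, hm⟩ := (Set.toFinite {H : Subgroup F | H ≠ ⊤}).exists_maximal ⟨⊥, bot_ne_top⟩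
      have hco : IsCoatom m := ⟨hm.1, fun H hH => by
        by_contra hne
        exact not_le_of_gt hH (hm.2 hne hH.le)⟩
      exact hco.1 (top_le_iff.1 (hFtop.symm.le.trans (frattini_le_coatom hco)))
  have hle : (Nat.card V).factorization p ≤ (Nat.card (X ⧸ Φ)).factorization p :=
    (Nat.factorization_le_iff_dvd Nat.card_pos.ne' Nat.card_pos.ne').2 (Subgroup.card_subgroup_dvd_card V) p
  -- a Hall `p'`-subgroup
  obtain ⟨e, m, hm, hem⟩ := Nat.exists_eq_pow_mul_and_not_dvd (Nat.card_pos (α := X ⧸ Φ)).ne' p hp.out.ne_one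
  have he : (Nat.card (X ⧸ Φ)).factorization p = e := by
    rw [hem, Nat.factorization_mul (pow_ne_zero _ hp.out.ne_zero) (show m ≠ 0 from fun h0 => hm (by rw [h0]; exact dvd_zero p)),
      Finsupp.add_apply, hp.out.factorization_pow, Finsupp.single_eq_same,
      Nat.factorization_eq_zero_of_not_dvd hm, add_zero]
  rw [he] at hq hle
  rw [ha, hp.out.factorization_pow, Finsupp.single_eq_same] at hle
  obtain ⟨K, hK⟩ := H1.hall_exists (G := X ⧸ Φ) m (p ^ e) (by rw [hem, mul_comm])
    (((hp.out.coprime_iff_not_dvd).2 hm).pow_left e).symm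
  let R : Subgroup (X ⧸ Φ) := V ⊔ K
  haveI : Fintype R := Fintype.ofFinite R
  let V' : Subgroup R := V.subgroupOf R
  let K' : Subgroup R := K.subgroupOf R
  haveI : V'.Normal := Subgroup.normal_subgroupOf
  have hcop : (Nat.card V).Coprime (Nat.card K) := by
    rw [ha, hK]; exact ((hp.out.coprime_iff_not_dvd).2 hm).pow_left a
  have hRcard : Nat.card R = Nat.card V * Nat.card K :=
    H1.card_sup_of_coprime (by rw [Subgroup.normalizer_eq_top]; exact le_top) hcop
  have hV'c : Nat.card V' = Nat.card V := Nat.card_congr (Subgroup.subgroupOfEquivOfLe le_sup_left).toEquiv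
  have hK'c : Nat.card K' = Nat.card K := Nat.card_congr (Subgroup.subgroupOfEquivOfLe le_sup_right).toEquiv
  have hcompl : Subgroup.IsComplement' V' K' :=
    Subgroup.isComplement'_of_coprime (by rw [hV'c, hK'c, hRcard]) (by rw [hV'c, hK'c]; exact hcop)
  have hidx' : ¬ p ∣ V'.index := by
    rw [hcompl.symm.index_eq_card, hK'c, hK]; exact hm
  have hself' : Subgroup.centralizer (V' : Set R) = V' := by
    refine le_antisymm (fun c hc => ?_) fun c hc => ?_
    · rw [Subgroup.mem_subgroupOf, ← hself, Subgroup.mem_centralizer_iff]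
      intro y hy
      exact congrArg Subtype.val (Subgroup.mem_centralizer_iff.1 hc ⟨y, le_sup_left (b := K) hy⟩ hy)
    · rw [Subgroup.mem_centralizer_iff]
      intro y hy
      refine Subtype.ext ?_
      have h1 : (c : X ⧸ Φ) ∈ Subgroup.centralizer (V : Set (X ⧸ Φ)) := by rw [hself]; exact hc
      exact Subgroup.mem_centralizer_iff.1 h1 _ hy
  have hR := classes_le_of_coprime (R := R) hM V' (fun w hw => Subtype.ext (hexp _ hw)) hidx' hself' K'
    hcompl (a := a) (by rw [hV'c, ha]) ha0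
  rw [hV'c, ha] at hR
  have hidxR : R.index * p ^ a = p ^ e := by
    have h1 := R.card_mul_index
    rw [hRcard, hK, ha, hem, mul_comm (p ^ e) m, mul_comm (p ^ a) m, mul_assoc] at h1
    rw [mul_comm]
    exact Nat.eq_of_mul_eq_mul_left (show 0 < m from Nat.pos_of_ne_zero fun h0 => hm (by rw [h0]; exact dvd_zero p)) h1
  have h1 := (H27.class_number_bounds (X := X ⧸ Φ) R).2.1
  haveI := Fintype.ofFinite Φ
  have h2 := H27.class_number_le_normal_mul_quotient (X := X) Φ
  have h3 : Nat.card (ConjClasses Φ) ≤ p ^ j :=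
    hj ▸ Nat.card_le_card_of_surjective _ ConjClasses.mk_surjective
  calc Nat.card (ConjClasses X) ≤ p ^ j * (R.index * (p ^ a * 3 ^ (a - 1))) :=
        h2.trans (Nat.mul_le_mul h3 (h1.trans (Nat.mul_le_mul_left _ hR)))
    _ = 3 ^ (a - 1) * p ^ (j + e) := by rw [← mul_assoc R.index, hidxR, pow_add]; ring
    _ ≤ 3 ^ (d - 1) * p ^ d := by
        rw [add_comm j e, hq]
        exact Nat.mul_le_mul_right _ (Nat.pow_le_pow_right (by norm_num) (by omega))

end H27.KGV
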