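import Cfsg.Agent.H27.KGV.LargeOrbit
import Cfsg.Agent.H19.MajorBound
import Cfsg.Agent.H19.SplitChars
import Cfsg.Agent.H19.ItoSylow
import Cfsg.Agent.H20.Induced
import Cfsg.Agent.H1.SchurZassenhausConj
import Cfsg.Agent.H10.PSolvable
import Cfsg.Agent.S4492

/-!
`k(V ⋊ K)² ≤ |V|² · |C_K(v)|` and the resulting bound for coprime solvable `K`.
-/

set_option autoImplicit false
set_option linter.style.haveILetI false

open Cfsg

namespace H27.KGV

universe u

variable {p : ℕ} [hp : Fact p.Prime] {M : Ideal AlgInt}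

/-- All characters form one block when `V` is a normal self-centralising Sylow subgroup. -/
theorem univ_block (hM : IsPModular p M) {R : Type u} [Group R] [Fintype R] [Group.IsSolvable R]
    (V : Subgroup R) [V.Normal] (hexp : ∀ w ∈ V, w ^ p = 1) (hidx : ¬ p ∣ V.index)
    (hself : Subgroup.centralizer (V : Set R) = V) :
    IsPBlock M (Set.univ : Set (IrrCharacter R)) ∧
      (∀ χ : IrrCharacter R, (charDegree (χ : R → ℂ)).factorization p = 0) ∧
      blockDefect p (Set.univ : Set (IrrCharacter R)) = (Nat.card R).factorization p := by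
  classical
  have hVp : IsPGroup p V := fun a => ⟨1, Subtype.ext (by rw [pow_one]; exact hexp a a.2)⟩
  have hab : ∀ a ∈ V, ∀ b ∈ V, a * b = b * a := fun a ha b hb => by
    have : a ∈ Subgroup.centralizer (V : Set R) := by rw [hself]; exact ha
    exact (Subgroup.mem_centralizer_iff.mp this b hb).symm
  haveI hNn : (pPrimeCore p R).Normal := H1.pPrimeCore_normal' p R
  obtain ⟨k, hk⟩ := IsPGroup.iff_card.mp hVp
  have hN : pPrimeCore p R = ⊥ := by
    have hcopV : (Nat.card (pPrimeCore p R)).Coprime (Nat.card V) := by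
      rw [hk]; exact (H1.card_pPrimeCore_coprime p R).pow_right k
    have hd : pPrimeCore p R ⊓ V = ⊥ := disjoint_iff.1 (Subgroup.disjoint_of_coprime_natCard hcopV)
    have hle : pPrimeCore p R ≤ V := by
      intro x hx
      rw [← hself, Subgroup.mem_centralizer_iff]
      intro v hv
      exact (Subgroup.commute_of_normal_of_disjoint _ V inferInstance inferInstance
        (disjoint_iff.2 hd) x v hx hv).eq.symm
    rwa [inf_of_le_left hle] at hd
  set N := pPrimeCore p R with hNdef
  haveI := Fintype.ofFinite N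
  haveI : Subsingleton N := by rw [hN]; infer_instance
  have hinv : ∀ (g : R) (n : N), (H12.oneIrr N : N → ℂ) ⟨g * n * g⁻¹, hNn.conj_mem n n.2 g⟩ =
      (H12.oneIrr N : N → ℂ) n := fun _ _ => rfl
  haveI : Fact p.Prime := hp
  obtain ⟨B, hB, hmem, -, -⟩ := Cfsg.Agent.S4492.result p M hM H10.isPSolvable_of_isSolvable N hNdef
    (H12.oneIrr N) hinv
  have hBu : B = Set.univ := Set.eq_univ_of_forall fun χ => (hmem χ).2 (by
    rw [H12.classInner_def]
    simp only [fun n : N => show (n : R) = 1 by rw [Subsingleton.elim n 1, OneMemClass.coe_one]]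
    simp only [show (H12.oneIrr N : N → ℂ) = fun _ => 1 from rfl, map_one, mul_one, Finset.sum_const,
      Finset.card_univ, nsmul_eq_mul]
    exact mul_ne_zero (inv_ne_zero (Nat.cast_ne_zero.2 Nat.card_pos.ne'))
      (mul_ne_zero (Nat.cast_ne_zero.2 Fintype.card_ne_zero) (H12.irr_apply_one_ne_zero χ)))
  have hdeg : ∀ χ : IrrCharacter R, (charDegree (χ : R → ℂ)).factorization p = 0 := fun χ => by
    refine Nat.factorization_eq_zero_of_not_dvd fun h => hidx (h.trans ?_)
    have hcop : (Nat.card V).Coprime V.index := by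
      rw [hk]; exact ((hp.out.coprime_iff_not_dvd).2 hidx).pow_left k
    exact H14.degree_dvd_index_of_abelian_coprime V hab hcop χ
  refine ⟨hBu ▸ hB, hdeg, ?_⟩
  unfold blockDefect
  rw [show (fun χ : IrrCharacter R => (charDegree (χ : R → ℂ)).factorization p) = fun _ => 0 from
    funext hdeg, Set.Nonempty.image_const (s := (Set.univ : Set (IrrCharacter R))) ⟨H12.oneIrr R, trivial⟩]
  simp

/-- The `p`-regular rank is at most the class number of a complement. -/
theorem blockRank_le {R : Type u} [Group R] [Fintype R] [Group.IsSolvable R]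
    (V : Subgroup R) [V.Normal] (hexp : ∀ w ∈ V, w ^ p = 1) (hidx : ¬ p ∣ V.index)
    (H : Subgroup R) (hH : Subgroup.IsComplement' V H) (B : Set (IrrCharacter R)) :
    blockRank p B ≤ Nat.card (ConjClasses H) := by
  classical
  haveI : Fintype (ConjClasses H) := Fintype.ofFinite _
  have hVp : IsPGroup p V := fun a => ⟨1, Subtype.ext (by rw [pow_one]; exact hexp a a.2)⟩
  obtain ⟨k, hk⟩ := IsPGroup.iff_card.mp hVp
  have hconj : ∀ x : R, ¬ p ∣ orderOf x → ∃ h : H, IsConj x (h : R) := by
    intro x hx
    let Y : Subgroup R := V ⊔ Subgroup.zpowers x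
    let K : Subgroup R := H ⊓ Y
    have hxnorm : Subgroup.zpowers x ≤ Subgroup.normalizer (V : Set R) := by
      rw [Subgroup.normalizer_eq_top]; exact le_top
    have hcop : (Nat.card V).Coprime (Nat.card (Subgroup.zpowers x)) := by
      rw [hk, Nat.card_zpowers]
      exact ((hp.out.coprime_iff_not_dvd).2 hx).pow_left k
    have hcY : Nat.card Y = Nat.card V * Nat.card (Subgroup.zpowers x) :=
      H1.card_sup_of_coprime hxnorm hcop
    have hKY : Y = V ⊔ K := by
      refine le_antisymm (fun y hy => ?_) (sup_le le_sup_left inf_le_right)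
      obtain ⟨⟨a, b⟩, rfl⟩ := hH.2 y
      refine Subgroup.mul_mem_sup a.2 ⟨b.2, ?_⟩
      have := mul_mem (inv_mem ((le_sup_left : V ≤ Y) a.2)) hy
      rwa [inv_mul_cancel_left] at this
    have hVH : V ⊓ H = ⊥ := hH.disjoint.eq_bot
    have hcard : Nat.card K = Nat.card (Subgroup.zpowers x) := by
      have hcopK : (Nat.card V).Coprime (Nat.card K) := by
        rw [hk]
        exact (((hp.out.coprime_iff_not_dvd).2 (hH.symm.index_eq_card ▸ hidx)).coprime_dvd_right
          (Subgroup.card_dvd_of_le inf_le_left)).pow_left k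
      have := H1.card_sup_of_coprime (H := K) (D := V)
        (by rw [Subgroup.normalizer_eq_top]; exact le_top) hcopK
      rw [← hKY, hcY] at this
      exact (Nat.eq_of_mul_eq_mul_left Nat.card_pos this).symm
    obtain ⟨d, -, hd⟩ := H1.exists_conj_eq_of_coprime (D := V) (H := Subgroup.zpowers x) (K := K)
      hxnorm hcop (Or.inl (by infer_instance)) inf_le_right hcard
    have hdx : d * x * d⁻¹ ∈ K := by
      rw [← hd]
      exact ⟨x, Subgroup.mem_zpowers x, rfl⟩
    exact ⟨⟨d * x * d⁻¹, hdx.1⟩, isConj_iff.2 ⟨d, rfl⟩⟩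
  let W := Submodule.span ℂ ((fun χ : IrrCharacter R => pRegularPart p (χ : R → ℂ)) '' B)
  let ev : (R → ℂ) →ₗ[ℂ] (ConjClasses H → ℂ) :=
    { toFun := fun f C => f ((Quotient.out (C : ConjClasses H) : H) : R)
      map_add' := fun _ _ => rfl
      map_smul' := fun _ _ => rfl }
  have hinj : Function.Injective (ev.domRestrict W) := by
    rw [← LinearMap.ker_eq_bot, Submodule.eq_bot_iff]
    rintro ⟨f, hf⟩ hker
    rw [LinearMap.mem_ker] at hker
    have hprop : (∀ x : R, p ∣ orderOf x → f x = 0) ∧ ∀ x y : R, IsConj x y → f x = f y := by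
      clear hker
      induction hf using Submodule.span_induction with
      | mem g hg =>
        obtain ⟨χ, -, rfl⟩ := hg
        refine ⟨fun x hx => ?_, fun x y hxy => ?_⟩
        · simp only [pRegularPart]
          rw [if_neg (fun h : IsPRegular p x => h hx)]
        · obtain ⟨c, hc⟩ := isConj_iff.1 hxy
          have ho : orderOf y = orderOf x := by
            rw [← hc]; exact orderOf_injective (MulAut.conj c).toMonoidHom (MulAut.conj c).injective x
          simp only [pRegularPart, IsPRegular, ho,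
            H12.IsClassFunction.of_isConj (H12.irr_isClassFunction χ) hxy]
      | zero => exact ⟨fun _ _ => rfl, fun _ _ _ => rfl⟩
      | add g h _ _ hg hh =>
        exact ⟨fun x hx => by simp [hg.1 x hx, hh.1 x hx],
          fun x y hxy => by simp [hg.2 x y hxy, hh.2 x y hxy]⟩
      | smul c g _ hg =>
        exact ⟨fun x hx => by simp [hg.1 x hx], fun x y hxy => by simp [hg.2 x y hxy]⟩
    refine Subtype.ext (funext fun x => ?_)
    show f x = 0
    by_cases hx : p ∣ orderOf x
    · exact hprop.1 x hx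
    obtain ⟨h, hh⟩ := hconj x hx
    have hrep : IsConj h (Quotient.out (ConjClasses.mk h) : H) :=
      ConjClasses.mk_eq_mk_iff_isConj.1 (Quotient.out_eq (ConjClasses.mk h)).symm
    rw [hprop.2 x _ (hh.trans (H.subtype.map_isConj hrep))]
    exact congrFun hker (ConjClasses.mk h)
  have := LinearMap.finrank_le_finrank_of_injective hinj
  rw [Module.finrank_pi] at this
  rw [Nat.card_eq_fintype_card]
  exact this

/-- **Brauer's bound** for `V ⋊ K` at the element `v`. -/
theorem classes_sq_le (hM : IsPModular p M) {R : Type u} [Group R] [Fintype R] [Group.IsSolvable R]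
    (V : Subgroup R) [V.Normal] (hexp : ∀ w ∈ V, w ^ p = 1) (hidx : ¬ p ∣ V.index)
    (hself : Subgroup.centralizer (V : Set R) = V) (H : Subgroup R) (hH : Subgroup.IsComplement' V H)
    (v : R) (hv : v ∈ V) :
    Nat.card (ConjClasses R) ^ 2 ≤
      Nat.card V ^ 2 * Nat.card (H ⊓ Subgroup.centralizer ({v} : Set R) : Subgroup R) := by
  classical
  haveI := H20.isPrime_of_modular hM
  set C : Subgroup R := Subgroup.centralizer ({v} : Set R) with hC
  haveI := Fintype.ofFinite C
  have hab : ∀ a ∈ V, ∀ b ∈ V, a * b = b * a := fun a ha b hb => by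
    have : a ∈ Subgroup.centralizer (V : Set R) := by rw [hself]; exact ha
    exact (Subgroup.mem_centralizer_iff.mp this b hb).symm
  have hVC : V ≤ C := fun a ha => Subgroup.mem_centralizer_singleton_iff.2 (hab a ha v hv)
  let V' : Subgroup C := V.subgroupOf C
  haveI : V'.Normal := Subgroup.normal_subgroupOf
  let H' : Subgroup C := (H ⊓ C).subgroupOf C
  have hexp' : ∀ w ∈ V', w ^ p = 1 := fun w hw => Subtype.ext (hexp _ hw)
  have hidx' : ¬ p ∣ V'.index := fun h => hidx (h.trans (by
    rw [← Subgroup.relIndex]; exact Subgroup.relIndex_dvd_index_of_normal V C))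
  have hself' : Subgroup.centralizer (V' : Set C) = V' := by
    refine le_antisymm (fun c hc => ?_) fun c hc => ?_
    · rw [Subgroup.mem_subgroupOf, ← hself, Subgroup.mem_centralizer_iff]
      intro a ha
      exact congrArg Subtype.val (Subgroup.mem_centralizer_iff.1 hc ⟨a, hVC ha⟩ ha)
    · rw [Subgroup.mem_centralizer_iff]
      intro a ha
      exact Subtype.ext (hab _ ha _ hc)
  have hH' : Subgroup.IsComplement' V' H' := by
    constructor
    · rintro ⟨a, b⟩ ⟨a', b'⟩ he
      have h1 := hH.1 (a₁ := (⟨((a : C) : R), a.2⟩, ⟨((b : C) : R), b.2.1⟩))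
        (a₂ := (⟨((a' : C) : R), a'.2⟩, ⟨((b' : C) : R), b'.2.1⟩)) (congrArg Subtype.val he)
      simp only [Prod.mk.injEq] at h1
      exact Prod.ext (Subtype.ext (Subtype.ext (congrArg (fun z : V => (z : R)) h1.1)))
        (Subtype.ext (Subtype.ext (congrArg (fun z : H => (z : R)) h1.2)))
    · intro c
      obtain ⟨⟨a, b⟩, hab'⟩ := hH.2 (c : R)
      have hb : (b : R) ∈ C := by
        have := C.mul_mem (C.inv_mem (hVC a.2)) c.2
        rw [← hab'] at this
        rwa [inv_mul_cancel_left] at this
      exact ⟨(⟨⟨a, hVC a.2⟩, a.2⟩, ⟨⟨b, hb⟩, ⟨b.2, hb⟩⟩), Subtype.ext hab'⟩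
  obtain ⟨hB, hdeg, hdef⟩ := univ_block hM V hexp hidx hself
  obtain ⟨hb, -, hdefb⟩ := univ_block (R := C) hM V' hexp' hidx' hself'
  have hy : ∃ k : ℕ, orderOf v = p ^ k := by
    obtain ⟨k, -, hk⟩ := (Nat.dvd_prime_pow hp.out).1
      (show orderOf v ∣ p ^ 1 by rw [pow_one]; exact orderOf_dvd_of_pow_eq_one (hexp v hv))
    exact ⟨k, hk⟩
  have hcz : Subgroup.centralizer (Subgroup.zpowers v : Set R) = C := by
    rw [Subgroup.zpowers_eq_closure, Subgroup.centralizer_closure, hC]
  obtain ⟨k, hk⟩ := hy
  obtain ⟨B₀, hind⟩ := H20.exists_induced_block (G := R) hM (P := Subgroup.zpowers v) (H := C)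
    (IsPGroup.of_card (by rw [Nat.card_zpowers, hk]))
    (by rw [Subgroup.zpowers_le]; exact Subgroup.mem_centralizer_singleton_iff.2 rfl)
    hcz.le (hcz ▸ Subgroup.centralizer_le_normalizer _) hb
  have hB₀ : B₀ = Set.univ := by
    obtain ⟨χ, hχ⟩ := H20.block_nonempty hind.2.1
    rw [H20.block_eq_blockOf hind.2.1 hχ, H20.block_eq_blockOf hB (Set.mem_univ χ)]
  subst hB₀
  have hfac : (Nat.card C).factorization p = (Nat.card R).factorization p := by
    have h1 := congrArg (fun n => Nat.factorization n p) (Subgroup.card_mul_index C)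
    simp only [Nat.factorization_mul Nat.card_pos.ne' Subgroup.index_ne_zero_of_finite,
      Finsupp.add_apply] at h1
    have h2 : C.index.factorization p = 0 := Nat.factorization_eq_zero_of_not_dvd fun h =>
      hidx (h.trans (Subgroup.index_dvd_of_le hVC))
    omega
  have hmain := H19.MajorBound.card_sq_le (p := p) hM (B := (Set.univ : Set (IrrCharacter R)))
    (fun χ _ => by rw [blockHeight, hdeg χ, Nat.zero_sub]) ⟨k, hk⟩ C hC hind
    (by rw [hdefb, hdef, hfac])
  have hVcard : p ^ blockDefect p (Set.univ : Set (IrrCharacter R)) = Nat.card V := by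
    rw [hdef, ← Subgroup.card_mul_index V, Nat.factorization_mul Nat.card_pos.ne'
      Subgroup.index_ne_zero_of_finite, Finsupp.add_apply, Nat.factorization_eq_zero_of_not_dvd hidx,
      add_zero]
    obtain ⟨k', hk'⟩ := IsPGroup.iff_card.mp (show IsPGroup p V from
      fun a => ⟨1, Subtype.ext (by rw [pow_one]; exact hexp a a.2)⟩)
    rw [hk', Nat.Prime.factorization_pow hp.out, Finsupp.single_eq_same]
  rw [Nat.card_coe_set_eq, Set.ncard_univ, H12.card_irrCharacter, mul_comm 2, pow_mul, hVcard] at hmain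
  refine hmain.trans (Nat.mul_le_mul_left _ ((blockRank_le V' hexp' hidx' H' hH' _).trans ?_))
  refine (Nat.card_le_card_of_surjective _ ConjClasses.mk_surjective).trans (le_of_eq ?_)
  exact Nat.card_congr (Subgroup.subgroupOfEquivOfLe inf_le_right).toEquiv

/-- The bound for `V ⋊ K` with `K` solvable of order prime to `p`. -/
theorem classes_le_of_coprime (hM : IsPModular p M) {R : Type u} [Group R] [Fintype R] [Group.IsSolvable R]
    (V : Subgroup R) [V.Normal] (hexp : ∀ w ∈ V, w ^ p = 1) (hidx : ¬ p ∣ V.index)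
    (hself : Subgroup.centralizer (V : Set R) = V) (H : Subgroup R) (hH : Subgroup.IsComplement' V H)
    {a : ℕ} (ha : Nat.card V = p ^ a) (ha0 : 0 < a) :
    Nat.card (ConjClasses R) ≤ Nat.card V * 3 ^ (a - 1) := by
  classical
  have hab : ∀ x ∈ V, ∀ y ∈ V, x * y = y * x := fun x hx y hy => by
    have : x ∈ Subgroup.centralizer (V : Set R) := by rw [hself]; exact hx
    exact (Subgroup.mem_centralizer_iff.mp this y hy).symm
  letI : CommGroup V := { (inferInstance : Group V) with
    mul_comm := fun x y => Subtype.ext (hab x x.2 y y.2) }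
  obtain ⟨iM⟩ : Nonempty (Module (ZMod p) (Additive V)) := ⟨AddCommGroup.zmodModule (n := p) (fun x => by
    apply Additive.toMul.injective
    rw [toMul_nsmul, toMul_zero]
    exact Subtype.ext (hexp _ (Additive.toMul x).2))⟩
  let act : H → Additive V →+ Additive V := fun h =>
    MonoidHom.toAdditive (MulAut.conjNormal (h : R) : MulAut V).toMonoidHom
  let f : H → Module.End (ZMod p) (Additive V) := fun h => (act h).toZModLinearMap p
  have hf1 : f 1 = 1 := by
    refine LinearMap.ext fun x => ?_
    show Additive.ofMul (MulAut.conjNormal ((1 : H) : R) (Additive.toMul x)) = x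
    simp
  have hfm : ∀ g h, f (g * h) = f g * f h := fun g h => by
    refine LinearMap.ext fun x => ?_
    show Additive.ofMul (MulAut.conjNormal ((g * h : H) : R) (Additive.toMul x)) =
      Additive.ofMul (MulAut.conjNormal (g : R) (MulAut.conjNormal (h : R) (Additive.toMul x)))
    simp [map_mul]
  let ρ : Representation (ZMod p) H (Additive V) := ⟨⟨f, hf1⟩, hfm⟩
  have hρ : ∀ (h : H) (w : V), ρ h (Additive.ofMul w) = Additive.ofMul ((MulAut.conjNormal (h : R)) w) :=
    fun h w => rfl
  have hinj : Function.Injective ρ := by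
    intro g h he
    have hc : ∀ w : V, (g : R) * w * (g : R)⁻¹ = (h : R) * w * (h : R)⁻¹ := fun w => by
      have h1 := congrArg (fun f => ((Additive.toMul (f (Additive.ofMul w)) : V) : R)) he
      simpa [hρ] using h1
    have hmem : ((h⁻¹ * g : H) : R) ∈ V := by
      rw [← hself, Subgroup.mem_centralizer_iff]
      intro w hw
      have h1 := hc ⟨w, hw⟩
      show w * ((h : R)⁻¹ * g) = (h : R)⁻¹ * g * w
      calc w * ((h : R)⁻¹ * g) = (h : R)⁻¹ * ((h : R) * w * (h : R)⁻¹) * g := by group
        _ = _ := by rw [← h1]; group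
    have : ((h⁻¹ * g : H) : R) ∈ V ⊓ H := ⟨hmem, (h⁻¹ * g : H).2⟩
    rw [hH.disjoint.eq_bot, Subgroup.mem_bot] at this
    exact (inv_mul_eq_one.1 (Subtype.ext this)).symm
  haveI : Nontrivial V := by
    rw [← Finite.one_lt_card_iff_nontrivial, ha]
    exact Nat.one_lt_pow (by omega) hp.out.one_lt
  have hcop : (Nat.card H).Coprime p := by
    rw [← hH.symm.index_eq_card]
    exact ((hp.out.coprime_iff_not_dvd).2 hidx).symm
  have hfin : Module.finrank (ZMod p) (Additive V) = a := by
    refine Nat.pow_right_injective hp.out.two_le ?_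
    show p ^ _ = p ^ a
    rw [← ha, Nat.card_congr (Additive.ofMul : V ≃ Additive V),
      Module.natCard_eq_pow_finrank (K := ZMod p) (V := Additive V), Nat.card_zmod]
  obtain ⟨w, hw⟩ := exists_small_stab ρ hinj inferInstance hcop
  rw [hfin] at hw
  have hle : Nat.card (H ⊓ Subgroup.centralizer ({((Additive.toMul w : V) : R)} : Set R) : Subgroup R) ≤
      9 ^ (a - 1) := by
    have hmem : ∀ h : (H ⊓ Subgroup.centralizer ({((Additive.toMul w : V) : R)} : Set R) : Subgroup R),
        ρ ⟨(h : R), h.2.1⟩ w = w := fun h => by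
      show Additive.ofMul (MulAut.conjNormal (h : R) (Additive.toMul w)) = w
      rw [show MulAut.conjNormal (h : R) (Additive.toMul w) = (Additive.toMul w : V) from Subtype.ext (by
        rw [MulAut.conjNormal_apply, Subgroup.mem_centralizer_singleton_iff.1 h.2.2,
          mul_inv_cancel_right]), ofMul_toMul]
    refine le_trans (Nat.card_le_card_of_injective (fun h => ⟨⟨(h : R), h.2.1⟩, hmem h⟩) ?_) hw
    intro g h he
    simp only [Subtype.mk.injEq] at he
    exact Subtype.ext he
  have h2 := classes_sq_le hM V hexp hidx hself H hH _ (Additive.toMul w : V).2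
  refine (Nat.pow_le_pow_iff_left two_ne_zero).1 (h2.trans ?_)
  rw [mul_pow, ← pow_mul, mul_comm (a - 1), pow_mul]
  exact Nat.mul_le_mul_left _ hle

end H27.KGV
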