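import Mathlib
import Cfsg.Agent.H3.MinNormal

/-!
Systems of imprimitivity given by orthogonal idempotents, and the stabiliser of a suitable vector.
-/

set_option autoImplicit false
set_option linter.unusedSectionVars false
set_option linter.style.haveILetI false

namespace H27.KGV

theorem exists_small_generators {G : Type*} [Group G] [Finite G] :
    ∃ s : Finset G, Subgroup.closure (s : Set G) = ⊤ ∧ 2 ^ s.card ≤ Nat.card G := by
  classical
  haveI := Fintype.ofFinite G
  let S : Set (Finset G) :=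
    {s | 2 ^ s.card ≤ Nat.card (Subgroup.closure (s : Set G))}
  obtain ⟨s, hs⟩ := (Set.toFinite S).exists_maximal ⟨∅, by simp [S]⟩
  refine ⟨s, ?_, hs.1.trans (Subgroup.card_le_card_group _)⟩
  by_contra hne
  obtain ⟨x, hx⟩ : ∃ x, x ∉ Subgroup.closure (s : Set G) := by
    by_contra hc
    push Not at hc
    exact hne ((Subgroup.eq_top_iff' _).2 hc)
  have hxs : x ∉ s := fun h => hx (Subgroup.subset_closure h)
  have hlt : Subgroup.closure (s : Set G) < Subgroup.closure ((insert x s : Finset G) : Set G) := by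
    refine lt_of_le_of_ne (Subgroup.closure_mono (Finset.coe_subset.2 (Finset.subset_insert x s)))
      fun h => hx ?_
    rw [h]
    exact Subgroup.subset_closure (Finset.mem_insert_self x s)
  have hmem : insert x s ∈ S := by
    show 2 ^ (insert x s).card ≤ _
    rw [Finset.card_insert_of_notMem hxs, pow_succ]
    have h1 := Subgroup.relIndex_mul_relIndex ⊥ _ _ bot_le hlt.le
    rw [Subgroup.relIndex_bot_left, Subgroup.relIndex_bot_left] at h1
    have h2 : 2 ≤ (Subgroup.closure (s : Set G)).relIndex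
        (Subgroup.closure ((insert x s : Finset G) : Set G)) := by
      have h3 : (Subgroup.closure (s : Set G)).relIndex
          (Subgroup.closure ((insert x s : Finset G) : Set G)) ≠ 1 := fun h =>
        not_le_of_gt hlt (Subgroup.relIndex_eq_one.1 h)
      have h4 : (Subgroup.closure (s : Set G)).relIndex
          (Subgroup.closure ((insert x s : Finset G) : Set G)) ≠ 0 :=
        Subgroup.index_ne_zero_of_finite
      omega
    rw [← h1]
    exact Nat.mul_le_mul hs.1 h2
  exact hxs (hs.2 hmem (Finset.subset_insert x s) (Finset.mem_insert_self x s))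

theorem pow_log_succ_le (m : ℕ) (hm : 2 ≤ m) : m ^ (Nat.log 2 m + 1) ≤ 9 ^ (m - 1) := by
  set D := Nat.log 2 m with hD
  have h1 : 2 ^ D ≤ m := Nat.pow_log_le_self 2 (by omega)
  have h2 : m < 2 ^ (D + 1) := Nat.lt_pow_succ_log_self (by norm_num) m
  rcases Nat.lt_or_ge D 2 with hD2 | hD2
  · have : m < 4 := lt_of_lt_of_le h2 (by
      calc 2 ^ (D + 1) ≤ 2 ^ 2 := Nat.pow_le_pow_right (by norm_num) (by omega)
        _ = 4 := by norm_num)
    have hD1 : D = 1 := by
      rcases Nat.eq_zero_or_pos D with h | h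
      · rw [h] at h2; omega
      · omega
    rw [hD1]
    interval_cases m <;> norm_num
  · have h3 : ∀ d, 2 ≤ d → (d + 1) * (d + 1) ≤ 3 * (2 ^ d - 1) := by
      intro d hd
      induction d, hd using Nat.le_induction with
      | base => norm_num
      | succ d hd ih =>
        rw [pow_succ]
        have : 1 ≤ 2 ^ d := Nat.one_le_two_pow
        nlinarith [Nat.sub_add_cancel this, Nat.sub_add_cancel (show 1 ≤ 2 ^ d * 2 by omega)]
    calc m ^ (D + 1) ≤ (2 ^ (D + 1)) ^ (D + 1) := Nat.pow_le_pow_left h2.le _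
      _ = 2 ^ ((D + 1) * (D + 1)) := by rw [← pow_mul]
      _ ≤ 2 ^ (3 * (2 ^ D - 1)) := Nat.pow_le_pow_right (by norm_num) (h3 D hD2)
      _ = 8 ^ (2 ^ D - 1) := by rw [pow_mul]; norm_num
      _ ≤ 9 ^ (2 ^ D - 1) := Nat.pow_le_pow_left (by norm_num) _
      _ ≤ 9 ^ (m - 1) := Nat.pow_le_pow_right (by norm_num) (by omega)

/-- A solvable group acting faithfully on `α` with all nontrivial normal subgroups transitive. -/
theorem card_le_pow_log_of_quasiprimitive {G α : Type*} [Group G] [Finite G] [Group.IsSolvable G]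
    [MulAction G α] [FaithfulSMul G α] [Finite α] (hα : 2 ≤ Nat.card α)
    (htr : MulAction.IsPretransitive G α)
    (hq : ∀ N : Subgroup G, N.Normal → N ≠ ⊥ → MulAction.IsPretransitive N α) :
    Nat.card G ≤ Nat.card α ^ (Nat.log 2 (Nat.card α) + 1) := by
  classical
  obtain ⟨a₀⟩ : Nonempty α := Finite.card_pos_iff.1 (by omega)
  haveI : Nontrivial α := Finite.one_lt_card_iff_nontrivial.1 (by omega)
  haveI : Nontrivial G := by
    obtain ⟨b, hb⟩ := exists_ne a₀
    obtain ⟨g, hg⟩ := MulAction.exists_smul_eq G a₀ b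
    exact ⟨⟨g, 1, fun h => hb (by rw [← hg, h, one_smul])⟩⟩
  obtain ⟨N, hN, hN1, hmin⟩ := H3.exists_minNormal (G := G)
  haveI := hN
  have hcomm := H3.minNormal_comm N hN1 hmin
  have hNtr := hq N hN hN1
  have hfix : ∀ n : N, n • a₀ = a₀ → n = 1 := by
    intro n hn
    refine Subtype.ext (FaithfulSMul.eq_of_smul_eq_smul (α := α) fun b => ?_)
    obtain ⟨m, rfl⟩ := MulAction.exists_smul_eq N a₀ b
    show n • m • a₀ = (1 : G) • m • a₀
    rw [one_smul, smul_smul, hcomm.1.comm n m, ← smul_smul, hn]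
  have hcard : Nat.card N = Nat.card α :=
    Nat.card_eq_of_bijective (fun n : N => n • a₀) ⟨fun n m h => by
      have h1 := hfix (m⁻¹ * n) (by rw [← smul_smul, show n • a₀ = m • a₀ from h, inv_smul_smul])
      exact (inv_mul_eq_one.1 h1).symm, fun b => MulAction.exists_smul_eq N a₀ b⟩
  obtain ⟨s, hs, hscard⟩ := exists_small_generators (G := N)
  have hinj : Nat.card G ≤ Nat.card (α × (s → N)) := by
    refine Nat.card_le_card_of_injective (fun g => (g • a₀, fun x => MulAut.conjNormal g (x : N))) ?_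
    intro g g' he
    simp only [Prod.mk.injEq] at he
    have hall : (MulAut.conjNormal g : MulAut N).toMonoidHom = (MulAut.conjNormal g').toMonoidHom :=
      MonoidHom.eq_of_eqOn_dense hs fun x hx => congrFun he.2 ⟨x, hx⟩
    refine FaithfulSMul.eq_of_smul_eq_smul (α := α) fun b => ?_
    obtain ⟨n, rfl⟩ := MulAction.exists_smul_eq N a₀ b
    have hn : g * (n : G) * g⁻¹ = g' * (n : G) * g'⁻¹ := by
      simpa using congrArg Subtype.val (DFunLike.congr_fun hall n)
    show g • (n : G) • a₀ = g' • (n : G) • a₀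
    calc g • (n : G) • a₀ = (g * n * g⁻¹) • g • a₀ := by simp [smul_smul]
      _ = (g' * n * g'⁻¹) • g' • a₀ := by rw [hn, he.1]
      _ = g' • (n : G) • a₀ := by simp [smul_smul]
  rw [Nat.card_prod, Nat.card_fun, hcard, Nat.card_eq_finsetCard] at hinj
  refine hinj.trans ?_
  rw [← pow_succ']
  refine Nat.pow_le_pow_right (by omega) (Nat.succ_le_succ ?_)
  rw [← hcard]
  exact Nat.le_log_of_pow_le (by norm_num) hscard

theorem card_le_of_quasiprimitive {G α : Type*} [Group G] [Finite G] [Group.IsSolvable G]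
    [MulAction G α] [FaithfulSMul G α] [Finite α] (hα : 2 ≤ Nat.card α)
    (htr : MulAction.IsPretransitive G α)
    (hq : ∀ N : Subgroup G, N.Normal → N ≠ ⊥ → MulAction.IsPretransitive N α) :
    Nat.card G ≤ 9 ^ (Nat.card α - 1) :=
  (card_le_pow_log_of_quasiprimitive hα htr hq).trans (pow_log_succ_le _ hα)

theorem pow_log_succ_sq_le (m : ℕ) (hm : 2 ≤ m) :
    (m ^ (Nat.log 2 m + 1)) ^ 2 ≤ 36 ^ (m - 1) := by
  set D := Nat.log 2 m with hD
  have h1 : 2 ^ D ≤ m := Nat.pow_log_le_self 2 (by omega)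
  have h2 : m < 2 ^ (D + 1) := Nat.lt_pow_succ_log_self (by norm_num) m
  rcases Nat.lt_or_ge m 8 with hm8 | hm8
  · have hD2 : D ≤ 2 := by
      by_contra h
      have : 2 ^ 3 ≤ 2 ^ D := Nat.pow_le_pow_right (by norm_num) (by omega)
      omega
    refine (Nat.pow_le_pow_left (Nat.pow_le_pow_right (by omega)
      (show D + 1 ≤ min 3 (m - 1 + 1) by
        rcases Nat.lt_or_ge m 4 with h4 | h4
        · have : D ≤ 1 := by
            by_contra h
            have : 2 ^ 2 ≤ 2 ^ D := Nat.pow_le_pow_right (by norm_num) (by omega)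
            omega
          omega
        · omega)) 2).trans ?_
    interval_cases m <;> norm_num
  have hD3 : 3 ≤ D := Nat.le_log_of_pow_le (by norm_num) (by simpa using hm8)
  have h3 : ∀ d, 3 ≤ d → 2 * ((d + 1) * (d + 1)) ≤ 5 * (2 ^ d - 1) := by
    intro d hd
    induction d, hd using Nat.le_induction with
    | base => norm_num
    | succ d hd ih =>
      rw [pow_succ]
      have : 1 ≤ 2 ^ d := Nat.one_le_two_pow
      nlinarith [Nat.sub_add_cancel this, Nat.sub_add_cancel (show 1 ≤ 2 ^ d * 2 by omega)]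
  calc (m ^ (D + 1)) ^ 2 ≤ ((2 ^ (D + 1)) ^ (D + 1)) ^ 2 :=
        Nat.pow_le_pow_left (Nat.pow_le_pow_left h2.le _) _
    _ = 2 ^ (2 * ((D + 1) * (D + 1))) := by rw [← pow_mul, ← pow_mul]; ring_nf
    _ ≤ 2 ^ (5 * (2 ^ D - 1)) := Nat.pow_le_pow_right (by norm_num) (h3 D hD3)
    _ = 32 ^ (2 ^ D - 1) := by rw [pow_mul]; norm_num
    _ ≤ 36 ^ (2 ^ D - 1) := Nat.pow_le_pow_left (by norm_num) _
    _ ≤ 36 ^ (m - 1) := Nat.pow_le_pow_right (by norm_num) (by omega)

variable {K : Type*} [Group K] {F : Type*} [Field F] {V : Type*} [AddCommGroup V] [Module F V]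

/-- A system of imprimitivity, given by its projections. -/
structure Sys (ρ : Representation F K V) where
  /-- The projections. -/
  S : Finset (Module.End F V)
  ne : ∀ a ∈ S, a ≠ 0
  idem : ∀ a ∈ S, a * a = a
  orth : ∀ a ∈ S, ∀ b ∈ S, a ≠ b → a * b = 0
  sum_eq : ∑ a ∈ S, a = 1
  conj : ∀ k : K, ∀ a ∈ S, ρ k * a * ρ k⁻¹ ∈ S

theorem rho_mul_inv (ρ : Representation F K V) (k : K) : ρ k * ρ k⁻¹ = 1 := by
  rw [← map_mul, mul_inv_cancel, map_one]

theorem rho_inv_mul (ρ : Representation F K V) (k : K) : ρ k⁻¹ * ρ k = 1 := by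
  rw [← map_mul, inv_mul_cancel, map_one]

/-- The action on the projections. -/
@[reducible] def Sys.action {ρ : Representation F K V} (sy : Sys ρ) : MulAction K {a // a ∈ sy.S} where
  smul k a := ⟨ρ k * a.1 * ρ k⁻¹, sy.conj k a.1 a.2⟩
  one_smul a := Subtype.ext (by show ρ 1 * a.1 * ρ 1⁻¹ = a.1; simp)
  mul_smul k l a := Subtype.ext (by
    show ρ (k * l) * a.1 * ρ (k * l)⁻¹ = ρ k * (ρ l * a.1 * ρ l⁻¹) * ρ k⁻¹
    rw [mul_inv_rev, map_mul, map_mul]
    simp [mul_assoc])

end H27.KGV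

namespace H27.KGV

section

universe u v

variable {K : Type u} [Group K] [Finite K] [Group.IsSolvable K] {p : ℕ} [Fact p.Prime]
variable {V : Type v} [AddCommGroup V] [Module (ZMod p) V] [Finite V]
variable {ρ : Representation (ZMod p) K V}

theorem conj_mul (k : K) (a b : Module.End (ZMod p) V) :
    (ρ k * a * ρ k⁻¹) * (ρ k * b * ρ k⁻¹) = ρ k * (a * b) * ρ k⁻¹ := by
  simp only [mul_assoc]
  rw [← mul_assoc (ρ k⁻¹) (ρ k), rho_inv_mul, one_mul]

/-- The action on the projections is transitive when there is no invariant subspace. -/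
theorem Sys.transitive (sy : Sys ρ)
    (hirr : ∀ W : Submodule (ZMod p) V, (∀ k, ∀ w ∈ W, ρ k w ∈ W) → W = ⊥ ∨ W = ⊤) :
    letI := sy.action
    MulAction.IsPretransitive K {a // a ∈ sy.S} := by
  classical
  letI := sy.action
  haveI : Finite {a // a ∈ sy.S} := sy.S.finite_toSet.to_subtype
  refine ⟨fun a b => ?_⟩
  by_contra hab
  push Not at hab
  haveI : Fintype (MulAction.orbit K a) := Fintype.ofFinite _
  set e : Module.End (ZMod p) V := ∑ c ∈ (MulAction.orbit K a).toFinset, (c : Module.End (ZMod p) V)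
  have hek : ∀ k, ρ k * e = e * ρ k := by
    intro k
    have h1 : ρ k * e * ρ k⁻¹ = e := by
      simp only [e, Finset.mul_sum, Finset.sum_mul]
      refine Finset.sum_bij (fun c _ => k • c) (fun c hc => ?_)
        (fun c _ c' _ h => MulAction.injective k h) (fun c hc => ⟨k⁻¹ • c, ?_, smul_inv_smul k c⟩)
        (fun c _ => rfl)
      · simp only [Set.mem_toFinset] at hc ⊢
        obtain ⟨g, rfl⟩ := hc
        exact ⟨k * g, mul_smul k g a⟩
      · simp only [Set.mem_toFinset] at hc ⊢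
        obtain ⟨g, rfl⟩ := hc
        exact ⟨k⁻¹ * g, mul_smul k⁻¹ g a⟩
    calc ρ k * e = ρ k * e * (ρ k⁻¹ * ρ k) := by rw [rho_inv_mul, mul_one]
      _ = e * ρ k := by rw [← mul_assoc, h1]
  have hae : e * a.1 = a.1 := by
    simp only [e, Finset.sum_mul]
    rw [Finset.sum_eq_single a]
    · exact sy.idem a.1 a.2
    · exact fun c _ hca => sy.orth c.1 c.2 a.1 a.2 fun h => hca (Subtype.ext h)
    · exact fun h => absurd (Set.mem_toFinset.2 (MulAction.mem_orbit_self a)) h
  have hbe : e * b.1 = 0 := by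
    simp only [e, Finset.sum_mul]
    refine Finset.sum_eq_zero fun c hc => sy.orth c.1 c.2 b.1 b.2 fun h => ?_
    obtain ⟨k, hk⟩ := Set.mem_toFinset.1 hc
    exact hab k (hk.trans (Subtype.ext h))
  have hker := hirr (LinearMap.ker e) fun k w hw => by
    rw [LinearMap.mem_ker] at hw ⊢
    rw [show e (ρ k w) = (e * ρ k) w from rfl, ← hek]
    show ρ k (e w) = 0
    rw [hw, map_zero]
  rcases hker with h | h
  · refine sy.ne b.1 b.2 (LinearMap.ext fun x => ?_)
    have : b.1 x ∈ LinearMap.ker e := by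
      rw [LinearMap.mem_ker]
      exact LinearMap.congr_fun hbe x
    rwa [h, Submodule.mem_bot] at this
  · refine sy.ne a.1 a.2 ?_
    rw [← hae, LinearMap.ker_eq_top.1 h, zero_mul]

/-- Orbits of a normal subgroup give a coarser system. -/
theorem Sys.exists_coarser (sy : Sys ρ) (N : Subgroup K) [N.Normal]
    (hint : letI := sy.action; ¬ MulAction.IsPretransitive N {a // a ∈ sy.S})
    (hmove : letI := sy.action; ∃ n : N, ∃ a : {a // a ∈ sy.S}, n • a ≠ a) :
    ∃ sy' : Sys ρ, 2 ≤ sy'.S.card ∧ sy'.S.card < sy.S.card ∧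
      ∀ x : Module.End (ZMod p) V, (∀ a ∈ sy.S, Commute x a) → ∀ b ∈ sy'.S, Commute x b := by
  classical
  letI := sy.action
  haveI : Finite {a // a ∈ sy.S} := sy.S.finite_toSet.to_subtype
  let O : {a // a ∈ sy.S} → Finset {a // a ∈ sy.S} := fun a => (MulAction.orbit N a).toFinset
  let P : {a // a ∈ sy.S} → Module.End (ZMod p) V := fun a => ∑ c ∈ O a, c.1
  have hOmem : ∀ a, a ∈ O a := fun a => Set.mem_toFinset.2 (MulAction.mem_orbit_self a)
  have hOeq : ∀ a c, c ∈ O a → O c = O a := by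
    intro a c hc
    simp only [O] at hc ⊢
    exact Set.toFinset_congr (MulAction.orbit_eq_iff.2 (Set.mem_toFinset.1 hc))
  have hPc : ∀ a c, P a * c.1 = if c ∈ O a then c.1 else 0 := by
    intro a c
    simp only [P, Finset.sum_mul]
    split_ifs with h
    · rw [Finset.sum_eq_single c]
      · exact sy.idem c.1 c.2
      · exact fun d _ hdc => sy.orth d.1 d.2 c.1 c.2 fun he => hdc (Subtype.ext he)
      · exact fun h' => absurd h h'
    · exact Finset.sum_eq_zero fun d hd => sy.orth d.1 d.2 c.1 c.2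
        fun he => h (Subtype.ext he ▸ hd)
  have hPne : ∀ a, P a ≠ 0 := fun a h => sy.ne a.1 a.2 (by
    have := hPc a a
    rwa [h, zero_mul, if_pos (hOmem a), eq_comm] at this)
  have hPinj : ∀ a c, P a = P c → c ∈ O a := by
    intro a c h
    by_contra hc
    have h1 := hPc a c
    rw [if_neg hc, h, hPc c c, if_pos (hOmem c)] at h1
    exact sy.ne c.1 c.2 h1
  have hconj : ∀ (k : K) a, ρ k * P a * ρ k⁻¹ = P (k • a) := by
    intro k a
    simp only [P, Finset.mul_sum, Finset.sum_mul]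
    refine Finset.sum_bij (fun c _ => k • c) (fun c hc => ?_)
      (fun c _ c' _ h => MulAction.injective k h) (fun c hc => ?_) (fun c _ => rfl)
    · obtain ⟨n, hn⟩ := Set.mem_toFinset.1 hc
      refine Set.mem_toFinset.2 ⟨⟨k * n * k⁻¹, Subgroup.Normal.conj_mem inferInstance _ n.2 k⟩, ?_⟩
      show (k * (n : K) * k⁻¹) • k • a = k • c
      rw [← hn, smul_smul, inv_mul_cancel_right, ← smul_smul]
      rfl
    · obtain ⟨n, hn⟩ := Set.mem_toFinset.1 hc
      refine ⟨k⁻¹ • c, Set.mem_toFinset.2 ⟨⟨k⁻¹ * n * (k⁻¹)⁻¹,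
        Subgroup.Normal.conj_mem inferInstance _ n.2 k⁻¹⟩, ?_⟩, smul_inv_smul k c⟩
      show (k⁻¹ * (n : K) * (k⁻¹)⁻¹) • a = k⁻¹ • c
      rw [inv_inv, ← smul_smul, ← hn, ← smul_smul]
      rfl
  refine ⟨⟨Finset.univ.image P, ?_, ?_, ?_, ?_, ?_⟩, ?_, ?_, ?_⟩
  · intro a ha
    obtain ⟨c, -, rfl⟩ := Finset.mem_image.1 ha
    exact hPne c
  · intro a ha
    obtain ⟨c, -, rfl⟩ := Finset.mem_image.1 ha
    conv_lhs => arg 2; simp only [P]
    rw [Finset.mul_sum]
    exact Finset.sum_congr rfl fun d hd => by rw [hPc, if_pos hd]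
  · intro a ha b hb hab
    obtain ⟨c, -, rfl⟩ := Finset.mem_image.1 ha
    obtain ⟨d, -, rfl⟩ := Finset.mem_image.1 hb
    conv_lhs => arg 2; simp only [P]
    rw [Finset.mul_sum]
    refine Finset.sum_eq_zero fun x hx => ?_
    rw [hPc, if_neg]
    intro hxc
    exact hab (by simp only [P]; rw [← hOeq c x hxc, hOeq d x hx])
  · have h1 : ∑ a : {a // a ∈ sy.S}, a.1 = 1 := by
      rw [← sy.sum_eq]
      exact Finset.sum_coe_sort sy.S (fun a => a)
    rw [← h1, ← Finset.sum_fiberwise_of_maps_to (g := P) (t := Finset.univ.image P)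
      (fun a _ => Finset.mem_image_of_mem _ (Finset.mem_univ a))]
    refine Finset.sum_congr rfl fun b hb => ?_
    obtain ⟨c, -, rfl⟩ := Finset.mem_image.1 hb
    refine Finset.sum_congr ?_ fun _ _ => rfl
    ext x
    simp only [Finset.mem_filter, Finset.mem_univ, true_and]
    exact ⟨fun hx => by simp only [P]; rw [hOeq c x hx], fun h => hPinj c x h.symm⟩
  · intro k a ha
    obtain ⟨c, -, rfl⟩ := Finset.mem_image.1 ha
    rw [hconj]
    exact Finset.mem_image_of_mem _ (Finset.mem_univ _)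
  · obtain ⟨a, c, hac⟩ : ∃ a c : {a // a ∈ sy.S}, c ∉ MulAction.orbit N a := by
      by_contra hc
      push Not at hc
      exact hint ⟨fun x y => hc x y⟩
    exact Finset.one_lt_card.2 ⟨P a, Finset.mem_image_of_mem _ (Finset.mem_univ _), P c,
      Finset.mem_image_of_mem _ (Finset.mem_univ _), fun h => hac (Set.mem_toFinset.1 (hPinj a c h))⟩
  · obtain ⟨n, a, hna⟩ := hmove
    refine lt_of_lt_of_le ((Finset.card_image_le).lt_of_ne fun h => hna ?_) (le_of_eq ?_)
    · refine (Finset.card_image_iff.1 h) (Finset.mem_univ _) (Finset.mem_univ _) ?_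
      simp only [P]
      rw [hOeq a (n • a) (Set.mem_toFinset.2 ⟨n, rfl⟩)]
    · rw [Finset.card_univ, Fintype.card_coe]
  · intro x hx b hb
    obtain ⟨c, -, rfl⟩ := Finset.mem_image.1 hb
    exact Commute.sum_right _ _ _ fun d _ => hx d.1 d.2

/-- The projections are permuted by a small group in a coarsest system. -/
theorem Sys.card_perm_le_pow_log (sy : Sys ρ) (h2 : 2 ≤ sy.S.card)
    (hirr : ∀ W : Submodule (ZMod p) V, (∀ k, ∀ w ∈ W, ρ k w ∈ W) → W = ⊥ ∨ W = ⊤)
    (hmin : ∀ sy' : Sys ρ, 2 ≤ sy'.S.card →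
      (∀ x : Module.End (ZMod p) V, (∀ a ∈ sy.S, Commute x a) → ∀ b ∈ sy'.S, Commute x b) →
      sy.S.card ≤ sy'.S.card) :
    letI := sy.action
    Nat.card (MulAction.toPermHom K {a // a ∈ sy.S}).range ≤ sy.S.card ^ (Nat.log 2 sy.S.card + 1) := by
  classical
  letI := sy.action
  haveI : Finite {a // a ∈ sy.S} := sy.S.finite_toSet.to_subtype
  set σ := MulAction.toPermHom K {a // a ∈ sy.S}
  haveI : Group.IsSolvable σ.range :=
    Group.isSolvable_of_surjective σ.rangeRestrict_surjective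
  haveI : Finite σ.range := Finite.of_surjective _ σ.rangeRestrict_surjective
  have htr := sy.transitive hirr
  have hcard : Nat.card {a // a ∈ sy.S} = sy.S.card := by rw [Nat.card_eq_finsetCard]
  rw [← hcard]
  haveI : FaithfulSMul σ.range {a // a ∈ sy.S} := ⟨fun {x y} h =>
    Subtype.ext (Equiv.ext h)⟩
  refine card_le_pow_log_of_quasiprimitive (by omega) ⟨fun a b => ?_⟩ fun N hN hN1 => ?_
  · obtain ⟨k, hk⟩ := htr.exists_smul_eq a b
    exact ⟨⟨σ k, k, rfl⟩, hk⟩
  · haveI := hN
    let N' : Subgroup K := N.comap σ.rangeRestrict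
    haveI : N'.Normal := Subgroup.Normal.comap hN _
    by_contra hint
    obtain ⟨sy', h2', hlt, hcm⟩ := sy.exists_coarser N' (fun h => hint ⟨fun a b => by
        obtain ⟨k, hk⟩ := h.exists_smul_eq a b
        exact ⟨⟨σ.rangeRestrict k, k.2⟩, hk⟩⟩) (by
      obtain ⟨⟨x, hx⟩, hx1⟩ := Subgroup.ne_bot_iff_exists_ne_one.1 hN1
      obtain ⟨k, rfl⟩ := σ.rangeRestrict_surjective x
      by_contra hc
      push Not at hc
      exact hx1 (Subtype.ext (Subtype.ext (Equiv.ext fun a => hc ⟨k, hx⟩ a))))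
    have := hmin sy' h2' hcm
    omega

/-- The projections are permuted by a group of order at most `9^(m-1)` in a coarsest system. -/
theorem Sys.card_perm_le (sy : Sys ρ) (h2 : 2 ≤ sy.S.card)
    (hirr : ∀ W : Submodule (ZMod p) V, (∀ k, ∀ w ∈ W, ρ k w ∈ W) → W = ⊥ ∨ W = ⊤)
    (hmin : ∀ sy' : Sys ρ, 2 ≤ sy'.S.card → sy.S.card ≤ sy'.S.card) :
    letI := sy.action
    Nat.card (MulAction.toPermHom K {a // a ∈ sy.S}).range ≤ 9 ^ (sy.S.card - 1) :=
  (sy.card_perm_le_pow_log h2 hirr fun sy' h _ => hmin sy' h).trans (pow_log_succ_le _ h2)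

end

end H27.KGV
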